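import Groth.Agent.EtLim8.Limit

/-!
# Étale schemes over a limit come locally from the stages
-/

set_option autoImplicit false
set_option linter.unusedSectionVars false
set_option linter.style.haveILetI false
set_option backward.isDefEq.respectTransparency false
set_option backward.isDefEq.respectTransparency.types false

universe u

open CategoryTheory CategoryTheory.Limits AlgebraicGeometry Opposite

namespace Groth.Agent.BcLim5

open EtLim8 EtFound

/-- an affine étale scheme over the limit of a cofiltered system of qcqs schemes comes from a stage -/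
theorem exists_model_of_qcqs {I : Type u} [SmallCategory I] [IsCofiltered I] (D : I ⥤ Scheme.{u}) (c : Cone D)
    (hc : IsLimit c) (hA : ∀ ⦃i j : I⦄ (f : i ⟶ j), IsAffineHom (D.map f))
    [∀ i, CompactSpace ↥(D.obj i)] [∀ i, QuasiSeparatedSpace ↥(D.obj i)]
    {W : Scheme.{u}} (w : W ⟶ c.pt) [AlgebraicGeometry.Etale w] [IsAffine W] :
    ∃ (j : I) (A : Scheme.{u}) (q : A ⟶ D.obj j) (a : W ⟶ A),
      AlgebraicGeometry.Etale q ∧ IsPullback a w q (c.π.app j) ∧ CompactSpace ↥A ∧ QuasiSeparatedSpace ↥A := by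
  haveI : ∀ {i j : I} (f : i ⟶ j), IsAffineHom (D.map f) := fun {i j} f => hA f
  obtain ⟨i₀⟩ : Nonempty I := IsCofiltered.nonempty
  haveI := isAffineHom_π_app D c hc i₀
  haveI : QuasiSeparatedSpace ↥c.pt := quasiSeparatedSpace_of_quasiSeparated (c.π.app i₀)
  haveI : QuasiCompact w := quasiCompact_of_compactSpace w
  haveI : QuasiSeparated w := QuasiSeparated.of_quasiSeparatedSpace w
  obtain ⟨i, Xi, fi, g, hlfp, hqcf, hqsf, sq⟩ := Groth.Agent.S0591.result D c hc W w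
  haveI := hlfp
  haveI := hqcf
  haveI := hqsf
  haveI : CompactSpace Xi := QuasiCompact.compactSpace_of_compactSpace fi
  haveI : QuasiSeparatedSpace Xi := quasiSeparatedSpace_of_quasiSeparated fi
  obtain ⟨j, φ, Xj, Yj, fj, gj, pY, pX, hY, hX, hfj⟩ := Groth.Agent.S9192.result D c hc i fi (𝟙 (D.obj i))
    w (𝟙 c.pt) (c.π.app i) g (IsPullback.id_vert (c.π.app i)) sq
  haveI := hfj
  haveI : IsIso gj := hY.isIso_snd_of_isIso
  have hsq : IsPullback pX (fj ≫ gj) fi (D.map φ) := by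
    simpa using hX.paste_vert hY
  haveI : AlgebraicGeometry.Etale (fj ≫ gj) := inferInstance
  let a : W ⟶ Xj := hsq.lift g (w ≫ c.π.app j)
    (sq.w.trans ((congrArg (w ≫ ·) (c.w φ).symm).trans (Category.assoc _ _ _).symm))
  have h : IsPullback a w (fj ≫ gj) (c.π.app j) := by
    refine IsPullback.of_right (h₁₁ := a) (h₁₂ := pX) (h₂₂ := D.map φ) (v₁₃ := fi) ?_ (hsq.lift_snd _ _ _) hsq
    rw [hsq.lift_fst, c.w φ]
    exact sq
  haveI : IsAffineHom pX := MorphismProperty.of_isPullback (P := @IsAffineHom) hsq.flip (hA φ)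
  exact ⟨j, Xj, fj ≫ gj, a, inferInstance, h, QuasiCompact.compactSpace_of_compactSpace pX,
    quasiSeparatedSpace_of_quasiSeparated pX⟩

variable {ι : Type u} [Preorder ι] [IsDirected ι (· ≤ ·)] [Nonempty ι] {Xs : ιᵒᵖ ⥤ Scheme.{u}} {c : Cone Xs}
  [hA : ∀ {a b : ιᵒᵖ} (h : a ⟶ b), IsAffineHom (Xs.map h)]

/-- an étale scheme over the limit comes, near each point, from a stage -/
theorem exists_local_model (hc : IsLimit c) (W : c.pt.Etale) (y : W.left) :
    ∃ (B : W.left.Opens) (_ : y ∈ B) (_ : IsAffineOpen B) (j : ι) (A : (Xs.obj (op j)).Etale)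
      (a : (B : Scheme.{u}) ⟶ A.left), IsPullback a (B.ι ≫ W.hom) A.hom (pr c j) ∧ IsQcqsObj A := by
  obtain ⟨i₀⟩ := ‹Nonempty ι›
  haveI := isAffineHom_π_app Xs c hc (op i₀)
  obtain ⟨U, hU, hyU, -⟩ := exists_isAffineOpen_mem_and_subset (U := (⊤ : (Xs.obj (op i₀)).Opens))
    (TopologicalSpace.Opens.mem_top ((pr c i₀).base (W.hom.base y)))
  let w₀ : W.left ⟶ c.pt := W.hom
  haveI : AlgebraicGeometry.Etale w₀ := W.prop
  obtain ⟨B, hB, hyB, hBU⟩ := exists_isAffineOpen_mem_and_subset (U := (w₀ ≫ pr c i₀) ⁻¹ᵁ U) (x := y) hyU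
  let D := opensDiagram Xs (op i₀) U
  let cD := opensCone Xs c (op i₀) U
  haveI : ∀ a, IsAffine (D.obj a) := fun a => hU.preimage (Xs.map a.hom)
  let w : (B : Scheme.{u}) ⟶ cD.pt := IsOpenImmersion.lift (pr c i₀ ⁻¹ᵁ U).ι (B.ι ≫ w₀) (by
    rintro _ ⟨z, rfl⟩
    exact ⟨⟨_, hBU z.2⟩, rfl⟩)
  have hw : w ≫ (pr c i₀ ⁻¹ᵁ U).ι = B.ι ≫ w₀ := IsOpenImmersion.lift_fac _ _ _
  haveI : AlgebraicGeometry.Etale (B.ι ≫ w₀) := inferInstance
  haveI : AlgebraicGeometry.Etale (w ≫ (pr c i₀ ⁻¹ᵁ U).ι) := by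
    rw [hw]
    infer_instance
  haveI : AlgebraicGeometry.Etale w := AlgebraicGeometry.Etale.of_comp w (pr c i₀ ⁻¹ᵁ U).ι
  haveI : IsAffine (B : Scheme.{u}) := hB
  obtain ⟨j, A, q, a, hq, hsq, hAc, hAs⟩ := exists_model_of_qcqs D cD (isLimitOpensCone Xs c hc (op i₀) U)
    (fun _ _ f => inferInstance) w
  haveI := hq
  let O : (Xs.obj j.left).Opens := Xs.map j.hom ⁻¹ᵁ U
  let q' : A ⟶ Xs.obj j.left := q ≫ O.ι
  haveI : AlgebraicGeometry.Etale q' := inferInstance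
  have hO : IsPullback (cD.π.app j) (pr c i₀ ⁻¹ᵁ U).ι O.ι (c.π.app j.left) :=
    IsOpenImmersion.isPullback (cD.π.app j) (pr c i₀ ⁻¹ᵁ U).ι O.ι (c.π.app j.left) (by simp [cD, O]) (by
      simp only [O, Scheme.Opens.opensRange_ι, ← Scheme.Hom.comp_preimage, c.w])
  refine ⟨B, hyB, hB, j.left.unop, Scheme.Etale.mk q', a, ?_, ⟨hAc, hAs⟩⟩
  have := hsq.paste_vert hO
  rw [hw] at this
  exact this

end Groth.Agent.BcLim5
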