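import Groth.Agent.EtLim8.Acyclic
import Groth.Agent.BcLim5.LocalModel

/-!
# Acyclicity on the limit, for arbitrary stages
-/

set_option autoImplicit false
set_option linter.style.haveILetI false
set_option linter.unusedSectionVars false
set_option linter.unusedVariables false
set_option backward.isDefEq.respectTransparency.types false

universe u

open CategoryTheory CategoryTheory.Limits AlgebraicGeometry Opposite Abelian

namespace Groth.Agent.BcLim5

open EtFound EtLC12.QcqsAcyclic EtLim8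

variable {ι : Type u} [Preorder ι] [IsDirected ι (· ≤ ·)] [Nonempty ι] {Xs : ιᵒᵖ ⥤ Scheme.{u}} {c : Cone Xs}

variable [hA : ∀ {a b : ιᵒᵖ} (h : a ⟶ b), IsAffineHom (Xs.map h)] (hc : IsLimit c)
  (S : ShortComplex (EtCoh.Ab c.pt)) (hS : S.ShortExact)

include hc hS

set_option maxHeartbeats 1600000 in
theorem lim_sections_surjective (h1 : IsLimAcyclic c S.X₁) {i : ι} (V : (Xs.obj (op i)).Etale) (hV : IsQcqsObj V) :
    Function.Surjective (S.g.hom.app (op ((EtCoh.bc (pr c i)).obj V))).hom := by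
  intro z
  haveI := hS.mono_f
  haveI := hS.epi_g
  have hloc : Presheaf.IsLocallySurjective c.pt.smallEtaleTopology S.g.hom :=
    (Sheaf.isLocallySurjective_iff_epi' AddCommGrpCat.{u + 1} S.g).2 inferInstance
  let P : ∀ (l : ι) (hil : i ≤ l) (A : (Xs.obj (op l)).Etale) (q : A ⟶ (EtCoh.bc (tr Xs hil)).obj V), Prop :=
    fun l hil A q => ∀ (W : c.pt.Etale) (g : W ⟶ (EtCoh.bc (pr c i)).obj V) (a : W.left ⟶ A.left),
      a ≫ A.hom = W.hom ≫ pr c l →
      a ≫ q.left = g.left ≫ bcMap (tr Xs hil) (pr c l) (pr c i) (pr_tr c hil) V →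
      ∃ s, (S.g.hom.app (op W)).hom s = S.X₃.obj.map g.op z
  obtain ⟨N, hiN, κ, hκ, Q, p, hQq, hcov, hQ⟩ := exists_stage_cover hc V hV P (fun x => by
    obtain ⟨W₀, g₀, w₀, ⟨τ₀, hτ₀⟩, hw₀⟩ := (mem_topology_iff _).1
      (hloc.imageSieve_mem (U := (EtCoh.bc (pr c i)).obj V) z) x
    obtain ⟨B, hwB, hB, j, A, a, ha, hAq⟩ := BcLim5.exists_local_model hc W₀ w₀
    haveI : AlgebraicGeometry.Etale W₀.hom := W₀.prop
    let W : c.pt.Etale := Scheme.Etale.mk (B.ι ≫ W₀.hom)
    let inc : W ⟶ W₀ := MorphismProperty.Over.homMk B.ι rfl trivial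
    let y : W.left := (⟨w₀, hwB⟩ : B)
    let g₁ : W ⟶ (EtCoh.bc (pr c i)).obj V := inc ≫ g₀
    obtain ⟨τ₁, hτ₁⟩ : ∃ τ₁ : S.X₂.obj.obj (op W),
        (S.g.hom.app (op W)).hom τ₁ = S.X₃.obj.map g₁.op z := by
      refine ⟨S.X₂.obj.map inc.op τ₀, ?_⟩
      rw [op_comp, Functor.map_comp_apply, ← hτ₀]
      exact NatTrans.naturality_apply S.g.hom inc.op τ₀
    have hy : g₁.left.base y = x := by
      rw [← hw₀]
      exact Scheme.Hom.comp_apply inc.left g₀.left y
    haveI : IsAffine W.left := hB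
    obtain ⟨k, hik, hjk⟩ := exists_ge_ge i j
    let U' := (EtCoh.bc (tr Xs hjk)).obj A
    let V' := (EtCoh.bc (tr Xs hik)).obj V
    let a₁ : W.left ⟶ U'.left := pullback.lift a (W.hom ≫ pr c k) (by rw [Category.assoc, pr_tr]; exact ha.w)
    have wa₁ : a₁ ≫ U'.hom = W.hom ≫ pr c k := pullback.lift_snd _ _ _
    have ha₁ : a₁ ≫ bcFst (tr Xs hjk) A = a := pullback.lift_fst _ _ _
    haveI : AlgebraicGeometry.Etale U'.hom := U'.prop
    haveI : AlgebraicGeometry.Etale V'.hom := V'.prop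
    haveI : AlgebraicGeometry.Etale (pullback.fst U'.hom V'.hom) := MorphismProperty.pullback_fst _ _ V'.prop
    let R : (Xs.obj (op k)).Etale := Scheme.Etale.mk (pullback.fst U'.hom V'.hom ≫ U'.hom)
    let p₁ : R ⟶ U' := MorphismProperty.Over.homMk (pullback.fst U'.hom V'.hom) rfl trivial
    let p₂ : R ⟶ V' := MorphismProperty.Over.homMk (pullback.snd U'.hom V'.hom) pullback.condition.symm trivial
    let R' := (EtCoh.bc (pr c k)).obj R
    have wμ : ((bcFst (pr c k) R ≫ p₂.left) ≫ bcFst (tr Xs hik) V) ≫ V.hom = R'.hom ≫ pr c i := by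
      simp only [Category.assoc]
      rw [bcFst_w]
      refine Eq.trans ?_ (congrArg (R'.hom ≫ ·) (pr_tr c hik))
      refine (congrArg (bcFst (pr c k) R ≫ ·) ((Category.assoc _ _ _).symm.trans
        (congrArg (· ≫ tr Xs hik) (MorphismProperty.Over.w p₂)))).trans ?_
      exact (Category.assoc _ _ _).symm.trans
        ((congrArg (· ≫ tr Xs hik) (bcFst_w _ R)).trans (Category.assoc _ _ _))
    let m₂ : R' ⟶ (EtCoh.bc (pr c i)).obj V := liftBc (pr c i) _ wμ
    have wh : ((bcFst (pr c k) R ≫ p₁.left) ≫ bcFst (tr Xs hjk) A) ≫ A.hom = R'.hom ≫ pr c j := by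
      simp only [Category.assoc]
      rw [bcFst_w]
      refine Eq.trans ?_ (congrArg (R'.hom ≫ ·) (pr_tr c hjk))
      refine (congrArg (bcFst (pr c k) R ≫ ·) ((Category.assoc _ _ _).symm.trans
        (congrArg (· ≫ tr Xs hjk) (MorphismProperty.Over.w p₁)))).trans ?_
      exact (Category.assoc _ _ _).symm.trans
        ((congrArg (· ≫ tr Xs hjk) (bcFst_w _ R)).trans (Category.assoc _ _ _))
    let h : R' ⟶ W := MorphismProperty.Over.homMk
      (ha.lift ((bcFst (pr c k) R ≫ p₁.left) ≫ bcFst (tr Xs hjk) A) R'.hom wh) (ha.lift_snd _ _ _) trivial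
    let b : W.left ⟶ R.left :=
      pullback.lift a₁ (g₁.left ≫ bcMap (tr Xs hik) (pr c k) (pr c i) (pr_tr c hik) V) (by
        refine wa₁.trans ?_
        rw [Category.assoc]
        refine Eq.trans ?_ (congrArg (g₁.left ≫ ·) (bcMap_w (pr_tr c hik) V)).symm
        rw [← Category.assoc]
        exact (congrArg (· ≫ pr c k) (MorphismProperty.Over.w g₁)).symm)
    have hb₁ : b ≫ p₁.left = a₁ := pullback.lift_fst _ _ _
    have hb₂ : b ≫ p₂.left = g₁.left ≫ bcMap (tr Xs hik) (pr c k) (pr c i) (pr_tr c hik) V :=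
      pullback.lift_snd _ _ _
    have wb : b ≫ R.hom = W.hom ≫ pr c k :=
      ((congrArg (b ≫ ·) (MorphismProperty.Over.w p₁).symm).trans ((Category.assoc _ _ _).symm.trans
        (congrArg (· ≫ U'.hom) hb₁))).trans wa₁
    let e : W ⟶ R' := liftBc (pr c k) b wb
    have heh : e ≫ h = 𝟙 W := by
      refine MorphismProperty.Over.Hom.ext (ha.hom_ext ?_ ?_)
      · refine (Category.assoc _ _ _).trans ((congrArg (e.left ≫ ·) (ha.lift_fst _ _ _)).trans ?_)
        simp only [← Category.assoc]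
        erw [liftBc_fst, hb₁, ha₁]
        exact (Category.id_comp a).symm
      · refine (MorphismProperty.Over.w (e ≫ h)).trans ?_
        exact (Category.id_comp W.hom).symm
    have hem : e ≫ m₂ = g₁ := by
      refine hom_bc_ext ?_
      refine (Category.assoc _ _ _).trans ((congrArg (e.left ≫ ·) (liftBc_fst _ _ _)).trans ?_)
      simp only [← Category.assoc]
      erw [liftBc_fst, hb₂]
      rw [Category.assoc, bcMap_fst]
    let d := (S.g.hom.app (op R')).hom (S.X₂.obj.map h.op τ₁) - S.X₃.obj.map m₂.op z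
    have hde : S.X₃.obj.map e.op d = 0 := by
      rw [map_sub, sub_eq_zero]
      refine (NatTrans.naturality_apply S.g.hom e.op _).symm.trans ?_
      rw [← Functor.map_comp_apply, ← op_comp, heh, ← Functor.map_comp_apply, ← op_comp, hem, op_id,
        CategoryTheory.Functor.map_id]
      exact hτ₁
    let O : R'.left.Opens := ⟨nullLocus S.X₃ R' d, isOpen_nullLocus _ _ _⟩
    obtain ⟨l, hkl, B', hB', hyB, hBO⟩ := exists_affine_nhd k R hc O (e.left.base y) ⟨W, e, y, rfl, hde⟩
    let R'' := (EtCoh.bc (tr Xs hkl)).obj R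
    haveI : AlgebraicGeometry.Etale R''.hom := R''.prop
    let A' : (Xs.obj (op l)).Etale := Scheme.Etale.mk (B'.ι ≫ R''.hom)
    let η : A' ⟶ R'' := MorphismProperty.Over.homMk B'.ι rfl trivial
    have wν' : ((bcFst (tr Xs hkl) R ≫ p₂.left) ≫ bcFst (tr Xs hik) V) ≫ V.hom =
        R''.hom ≫ tr Xs (hik.trans hkl) := by
      simp only [Category.assoc]
      rw [bcFst_w]
      refine Eq.trans ?_ (congrArg (R''.hom ≫ ·) (tr_comp Xs hik hkl))
      refine (congrArg (bcFst (tr Xs hkl) R ≫ ·) ((Category.assoc _ _ _).symm.trans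
        (congrArg (· ≫ tr Xs hik) (MorphismProperty.Over.w p₂)))).trans ?_
      exact (Category.assoc _ _ _).symm.trans
        ((congrArg (· ≫ tr Xs hik) (bcFst_w _ R)).trans (Category.assoc _ _ _))
    let qq : R'' ⟶ (EtCoh.bc (tr Xs (hik.trans hkl))).obj V := liftBc (tr Xs (hik.trans hkl)) _ wν'
    refine ⟨l, hik.trans hkl, A', η ≫ qq, ?_, ?_, ?_⟩
    · haveI : IsAffine A'.left := hB'
      exact isQcqsObj_of_isAffine _
    · intro W' g a' wa' hga
      have wη : (η.left ≫ bcFst (tr Xs hkl) R) ≫ R.hom = A'.hom ≫ tr Xs hkl := by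
        rw [Category.assoc, bcFst_w, ← Category.assoc]
        exact congrArg (· ≫ _) (MorphismProperty.Over.w η)
      have wr : ((a' ≫ η.left) ≫ bcFst (tr Xs hkl) R) ≫ R.hom = W'.hom ≫ pr c k := by
        rw [Category.assoc, Category.assoc, ← Category.assoc η.left, wη, ← Category.assoc, wa',
          Category.assoc, pr_tr]
      let r : W' ⟶ R' := liftBc (pr c k) ((a' ≫ η.left) ≫ bcFst (tr Xs hkl) R) wr
      have hrg : r ≫ m₂ = g := by
        refine hom_bc_ext ?_
        refine (Category.assoc _ _ _).trans ((congrArg (r.left ≫ ·) (liftBc_fst _ _ _)).trans ?_)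
        simp only [← Category.assoc]
        erw [liftBc_fst]
        have e4 : (η ≫ qq).left ≫ bcFst (tr Xs (hik.trans hkl)) V =
            η.left ≫ (bcFst (tr Xs hkl) R ≫ p₂.left) ≫ bcFst (tr Xs hik) V :=
          (Category.assoc _ _ _).trans (congrArg (η.left ≫ ·) (liftBc_fst _ _ _))
        simp only [Category.assoc] at e4 ⊢
        rw [← e4, ← Category.assoc, hga, Category.assoc, bcMap_fst]
      have hr : S.X₃.obj.map r.op d = 0 := eq_zero_of_nullLocus fun w => map_mem_nullLocus r d (by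
        refine hBO _ ?_
        have e5 : r.left ≫ bcMap (tr Xs hkl) (pr c l) (pr c k) (pr_tr c hkl) R = a' ≫ η.left := by
          refine bc_hom_ext ?_ ?_
          · rw [Category.assoc, bcMap_fst]
            exact liftBc_fst _ _ _
          · rw [Category.assoc, bcMap_w, Category.assoc]
            refine (Category.assoc _ _ _).symm.trans ((congrArg (· ≫ pr c l) (MorphismProperty.Over.w r)).trans ?_)
            refine wa'.symm.trans ?_
            exact (congrArg (a' ≫ ·) (MorphismProperty.Over.w η)).symm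
        rw [← Scheme.Hom.comp_apply, e5, Scheme.Hom.comp_apply]
        exact (a'.base w).2)
      refine ⟨S.X₂.obj.map r.op (S.X₂.obj.map h.op τ₁), ?_⟩
      rw [map_sub, sub_eq_zero] at hr
      refine (NatTrans.naturality_apply S.g.hom r.op _).trans (hr.trans ?_)
      rw [← Functor.map_comp_apply, ← op_comp, hrg]
    · refine ⟨(⟨_, hyB⟩ : B'), ?_⟩
      have e3 : (e.left ≫ bcMap (tr Xs hkl) (pr c l) (pr c k) (pr_tr c hkl) R) ≫ qq.left =
          g₁.left ≫ bcMap (tr Xs (hik.trans hkl)) (pr c l) (pr c i) (pr_tr c _) V := by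
        refine bc_hom_ext ?_ ?_
        · simp only [qq, Category.assoc, liftBc_fst, bcMap_fst, bcMap_fst_assoc]
          erw [liftBc_fst_assoc, ← Category.assoc, hb₂]
          rw [Category.assoc, bcMap_fst]
        · simp only [Category.assoc]
          refine (congrArg (fun r => e.left ≫ bcMap (tr Xs hkl) (pr c l) (pr c k) (pr_tr c hkl) R ≫ r)
            (MorphismProperty.Over.w qq)).trans ?_
          rw [bcMap_w, bcMap_w]
          refine (Category.assoc _ _ _).symm.trans ((congrArg (· ≫ pr c l) (MorphismProperty.Over.w e)).trans ?_)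
          refine Eq.trans ?_ (Category.assoc _ _ _)
          exact congrArg (· ≫ pr c l) (MorphismProperty.Over.w g₁).symm
      change (η.left ≫ qq.left).base _ = _
      rw [Scheme.Hom.comp_apply, ← hy, ← Scheme.Hom.comp_apply g₁.left, ← e3, Scheme.Hom.comp_apply,
        Scheme.Hom.comp_apply]
      rfl)
  haveI : LocallySmall.{u + 1} (Xs.obj (op N)).Etale := ⟨fun _ _ => inferInstance⟩
  let VN := (EtCoh.bc (tr Xs hiN)).obj V
  haveI : HasFiniteProducts (Over VN) := hasFiniteProducts_of_has_binary_and_terminal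
  let Uf : κ → Over VN := fun k => Over.mk (p k)
  let S' := S.map (EtCoh.push (pr c N))
  have hsheaf : ∀ F : EtCoh.Ab (Xs.obj (op N)), Presieve.IsSheafFor (F.obj ⋙ forget AddCommGrpCat.{u + 1})
      (Presieve.ofArrows (fun i => (Uf i).left) fun i => (Uf i).hom) := by
    intro F
    rw [Presieve.isSheafFor_iff_generate]
    exact ((isSheaf_iff_isSheaf_of_type _ _).1
      ((Presheaf.isSheaf_iff_isSheaf_forget _ F.obj (forget AddCommGrpCat.{u + 1})).1 F.2)) _ hcov
  have wn : (((EtCoh.bc (pr c N)).obj VN).hom : _ ⟶ c.pt) ≫ pr c i =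
      ((EtCoh.bc (pr c N)).obj VN).hom ≫ pr c i := rfl
  have wm : (bcFst (pr c N) VN ≫ bcFst (tr Xs hiN) V) ≫ V.hom = ((EtCoh.bc (pr c N)).obj VN).hom ≫ pr c i := by
    rw [Category.assoc, bcFst_w, ← Category.assoc, bcFst_w, Category.assoc, pr_tr]
  let m : (EtCoh.bc (pr c N)).obj VN ⟶ (EtCoh.bc (pr c i)).obj V := liftBc (pr c i) _ wm
  let n : (EtCoh.bc (pr c i)).obj V ⟶ (EtCoh.bc (pr c N)).obj VN :=
    liftBc (pr c N) (bcMap (tr Xs hiN) (pr c N) (pr c i) (pr_tr c hiN) V) (bcMap_w _ V)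
  have hnm : n ≫ m = 𝟙 _ := by
    refine hom_bc_ext ?_
    refine (Category.assoc _ _ _).trans ((congrArg (n.left ≫ ·) (liftBc_fst _ _ _)).trans ?_)
    rw [← Category.assoc]
    erw [liftBc_fst, bcMap_fst]
    exact (Category.id_comp _).symm
  have hlift : ∀ k : κ, ∃ s : S'.X₂.obj.obj (op (Uf k).left),
      (S'.g.hom.app (op (Uf k).left)).hom s = S'.X₃.obj.map (Uf k).hom.op (S.X₃.obj.map m.op z) := by
    intro k
    obtain ⟨l, hil, hlN, A, q, b, wb, hP, hbq⟩ := hQ k
    let W := (EtCoh.bc (pr c N)).obj (Q k)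
    have wa : (bcFst (pr c N) (Q k) ≫ b) ≫ A.hom = W.hom ≫ pr c l := by
      rw [Category.assoc, wb, ← Category.assoc, bcFst_w, Category.assoc, pr_tr]
    obtain ⟨s, hs⟩ := hP W ((EtCoh.bc (pr c N)).map (p k) ≫ m) (bcFst (pr c N) (Q k) ≫ b) wa (by
      refine bc_hom_ext ?_ ?_
      · rw [Category.assoc, Category.assoc, ← Category.assoc b, hbq, Category.assoc, Category.assoc, bcMap_fst,
          bcMap_fst]
        refine Eq.trans ?_ (Category.assoc _ _ _).symm
        refine Eq.trans ?_ (congrArg (((EtCoh.bc (pr c N)).map (p k)).left ≫ ·) (liftBc_fst _ _ _)).symm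
        rw [← Category.assoc, ← Category.assoc]
        exact congrArg (· ≫ _) (EtCoh.isPullback_bc_map (pr c N) (p k)).w.symm
      · refine (Category.assoc _ _ _).trans ((congrArg (_ ≫ ·) (MorphismProperty.Over.w q)).trans (wa.trans ?_))
        rw [Category.assoc, bcMap_w, ← Category.assoc]
        exact congrArg (· ≫ _) (MorphismProperty.Over.w ((EtCoh.bc (pr c N)).map (p k) ≫ m)).symm)
    exact ⟨s, hs.trans (by rw [op_comp, Functor.map_comp_apply]; rfl)⟩
  choose sl hsl using hlift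
  obtain ⟨t, ht⟩ := CechSurjGen.exists_lift_of_isZero_cechH_one (Uf := Uf) S'.f.hom S'.g.hom
    (fun T => SiteBase.sheaf_app_injective S.f ((EtCoh.bc (pr c N)).obj T.unop))
    (fun T y hy => (SiteBase.secExact_iff S ((EtCoh.bc (pr c N)).obj T.unop)).1
      (hS.exact.map_of_mono_of_preservesKernel
        (sheafToPresheaf c.pt.smallEtaleTopology AddCommGrpCat.{u + 1} ⋙
          (evaluation c.pt.Etaleᵒᵖ AddCommGrpCat.{u + 1}).obj (op ((EtCoh.bc (pr c N)).obj T.unop)))
        inferInstance inferInstance) y hy)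
    (fun T x => congrArg (fun t : S.X₁ ⟶ S.X₃ => (t.hom.app (op ((EtCoh.bc (pr c N)).obj T.unop))).hom x) S.zero)
    (h1 N VN κ Uf (isQcqsObj_bc_map i V hiN hV) hQq 0) (hsheaf _) (hsheaf _)
    (S.X₃.obj.map m.op z) sl hsl
  refine ⟨S.X₂.obj.map n.op t, ?_⟩
  refine (NatTrans.naturality_apply S.g.hom n.op t).trans ?_
  refine (congrArg (S.X₃.obj.map n.op).hom ht).trans ?_
  rw [← Functor.map_comp_apply, ← op_comp, hnm, op_id, CategoryTheory.Functor.map_id]
  rfl

theorem lim_isLimAcyclic_X₃ (h1 : IsLimAcyclic c S.X₁) (h2 : IsLimAcyclic c S.X₂) : IsLimAcyclic c S.X₃ := by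
  intro m U _ κ _ Uf hU hUf p
  haveI : LocallySmall.{u + 1} (Xs.obj (op m)).Etale := ⟨fun _ _ => inferInstance⟩
  haveI := hS.mono_f
  haveI := hS.epi_g
  let S' := S.map (EtCoh.push (pr c m))
  exact CechSurjGen.isZero_cechH_quot S'.f.hom S'.g.hom
    (fun T => SiteBase.sheaf_app_injective S.f ((EtCoh.bc (pr c m)).obj T.unop))
    (fun T y hy => (SiteBase.secExact_iff S ((EtCoh.bc (pr c m)).obj T.unop)).1
      (hS.exact.map_of_mono_of_preservesKernel
        (sheafToPresheaf c.pt.smallEtaleTopology AddCommGrpCat.{u + 1} ⋙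
          (evaluation c.pt.Etaleᵒᵖ AddCommGrpCat.{u + 1}).obj (op ((EtCoh.bc (pr c m)).obj T.unop)))
        inferInstance inferInstance) y hy)
    (fun T x => congrArg (fun t : S.X₁ ⟶ S.X₃ => (t.hom.app (op ((EtCoh.bc (pr c m)).obj T.unop))).hom x) S.zero)
    p (h1 m U κ Uf hU hUf (p + 1)) (h2 m U κ Uf hU hUf p)
    (fun n i => lim_sections_surjective hc S hS h1 _ (isQcqsObj_prod hU n _ fun k => hUf _))

end Groth.Agent.BcLim5
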