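import Groth.Agent.BcQCalc.Pi
import Groth.Agent.SiteBase.Horseshoe
import Mathlib.CategoryTheory.Abelian.RightDerived

/-!
# Right derived functors from exact towers with acyclic terms
-/

set_option autoImplicit false
set_option linter.unusedSectionVars false
set_option linter.style.haveILetI false
set_option backward.isDefEq.respectTransparency false
set_option backward.isDefEq.respectTransparency.types false

universe v₁ v₂ u₁ u₂

open CategoryTheory CategoryTheory.Limits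

noncomputable section

namespace Groth.Agent.BcLim5

open BcQCalc

variable {A : Type u₁} [Category.{v₁} A] [Abelian A] [EnoughInjectives A]
  {B : Type u₂} [Category.{v₂} B] [Abelian B] (Φ : A ⥤ B) [Φ.Additive] [PreservesFiniteLimits Φ]

/-- the terms are acyclic -/
def IsAcycX (T : Tower A) : Prop := ∀ j m, IsZero ((Φ.rightDerived (m + 1)).obj (T.X j))

theorem isAcycX_of_injective (T : Tower A) [∀ j, Injective (T.X j)] : IsAcycX Φ T := fun _ m =>
  Φ.isZero_rightDerived_obj_injective_succ m _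

variable {T U : Tower A} (hT : T.IsExact) (hTa : IsAcycX Φ T)

/-- the boundary map -/
abbrev towerδ (j n : ℕ) : (Φ.rightDerived n).obj (T.Z (j + 1)) ⟶ (Φ.rightDerived (n + 1)).obj (T.Z j) :=
  (SESResLib.derivedLES Φ).δ (T.sc j) (hT j) n (n + 1) rfl

include hTa in
theorem epi_towerδ (j n : ℕ) : Epi (towerδ Φ hT j n) :=
  ((SESResLib.derivedLES Φ).exact₁ (T.sc j) (hT j) n (n + 1) rfl).epi_f ((hTa j n).eq_of_tgt _ _)

include hTa in
theorem isIso_towerδ (j m : ℕ) : IsIso (towerδ Φ hT j (m + 1)) := by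
  haveI := epi_towerδ Φ hT hTa j (m + 1)
  haveI : Mono (towerδ Φ hT j (m + 1)) :=
    ((SESResLib.derivedLES Φ).exact₃ (T.sc j) (hT j) (m + 1) (m + 1 + 1) rfl).mono_g ((hTa j m).eq_of_src _ _)
  exact isIso_of_mono_of_epi _

theorem towerδ_natural {hU : U.IsExact} (μ : Tower.Hom T U) (j n : ℕ) :
    (Φ.rightDerived n).map (μ.z (j + 1)) ≫ towerδ Φ hU j n =
      towerδ Φ hT j n ≫ (Φ.rightDerived (n + 1)).map (μ.z j) :=
  (SESResLib.derivedLES Φ).δ_natural (hT j) (hU j)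
    ({ τ₁ := μ.z j, τ₂ := μ.x j, τ₃ := μ.z (j + 1), comm₁₂ := (μ.comm_i j).symm,
       comm₂₃ := (μ.comm_p j).symm } : T.sc j ⟶ U.sc j) n (n + 1) rfl

include hT hTa in
theorem isIso_rightDerived_z {hU : U.IsExact} (hUa : IsAcycX Φ U) (μ : Tower.Hom T U) [IsIso (μ.z 0)] :
    ∀ j m, IsIso ((Φ.rightDerived (m + 1)).map (μ.z j)) := by
  intro j
  induction j with
  | zero => exact fun m => inferInstance
  | succ j ih =>
    intro m
    haveI := isIso_towerδ Φ hT hTa j m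
    haveI := isIso_towerδ Φ hU hUa j m
    haveI := ih (m + 1)
    have e : (Φ.rightDerived (m + 1)).map (μ.z (j + 1)) =
        (towerδ Φ hT j (m + 1) ≫ (Φ.rightDerived (m + 1 + 1)).map (μ.z j)) ≫ inv (towerδ Φ hU j (m + 1)) := by
      rw [IsIso.eq_comp_inv]
      exact towerδ_natural Φ hT μ j (m + 1)
    rw [e]
    infer_instance

/-- the boundary map from the functor itself -/
abbrev towerδ₀ (j : ℕ) : Φ.obj (T.Z (j + 1)) ⟶ (Φ.rightDerived 1).obj (T.Z j) :=
  Φ.rightDerivedZeroIsoSelf.inv.app (T.Z (j + 1)) ≫ towerδ Φ hT j 0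

theorem map_p_towerδ₀ (j : ℕ) : Φ.map (T.p j) ≫ towerδ₀ Φ hT j = 0 := by
  rw [← Category.assoc, Φ.rightDerivedZeroIsoSelf.inv.naturality, Category.assoc]
  exact (congrArg (_ ≫ ·) ((SESResLib.derivedLES Φ).comp_δ (T.sc j) (hT j) 0 1 rfl)).trans comp_zero

include hTa in
theorem desc_towerδ₀ (j : ℕ) {W : B} (k : Φ.obj (T.Z (j + 1)) ⟶ W) (hk : Φ.map (T.p j) ≫ k = 0) :
    ∃ k' : (Φ.rightDerived 1).obj (T.Z j) ⟶ W, towerδ₀ Φ hT j ≫ k' = k := by
  haveI := epi_towerδ Φ hT hTa j 0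
  have h : ((Φ.rightDerived 0).map (T.sc j).g) ≫ Φ.rightDerivedZeroIsoSelf.hom.app (T.Z (j + 1)) ≫ k = 0 := by
    rw [← Category.assoc]
    refine (congrArg (· ≫ k) (Φ.rightDerivedZeroIsoSelf.hom.naturality (T.p j))).trans ?_
    exact (Category.assoc _ _ _).trans ((congrArg (_ ≫ ·) hk).trans comp_zero)
  obtain ⟨k', hk'⟩ := CokernelCofork.IsColimit.desc'
    (((SESResLib.derivedLES Φ).exact₃ (T.sc j) (hT j) 0 1 rfl).gIsCokernel) _ h
  refine ⟨k', ?_⟩
  rw [Category.assoc]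
  exact (congrArg (_ ≫ ·) hk').trans (Iso.inv_hom_id_app_assoc _ _ _)

theorem towerδ₀_natural {hU : U.IsExact} (μ : Tower.Hom T U) (j : ℕ) :
    Φ.map (μ.z (j + 1)) ≫ towerδ₀ Φ hU j = towerδ₀ Φ hT j ≫ (Φ.rightDerived 1).map (μ.z j) := by
  rw [← Category.assoc, Φ.rightDerivedZeroIsoSelf.inv.naturality, Category.assoc, Category.assoc,
    towerδ_natural Φ hT μ j 0]

variable {F : A} (μ : Tower.Hom T (tw F))

theorem map_p_pic_of_hom (j : ℕ) : Φ.map (T.p j) ≫ Φ.map (μ.z (j + 1)) ≫ pic Φ F (j + 1) = 0 := by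
  rw [← Functor.map_comp_assoc, μ.comm_p, Functor.map_comp, Category.assoc, map_p_pic, comp_zero]

include hT hTa in
theorem epi_map_z_pic [IsIso (μ.z 0)] (q : ℕ) : Epi (Φ.map (μ.z q) ≫ pic Φ F q) := by
  cases q with
  | zero => exact epi_comp _ _
  | succ j =>
    haveI := isIso_rightDerived_z Φ hT hTa (hU := tw_isExact F) (isAcycX_of_injective Φ _) μ j 0
    obtain ⟨b, hb⟩ := desc_towerδ₀ Φ (tw_isExact F) (isAcycX_of_injective Φ _) j _ (map_p_pic Φ F j)
    haveI : Epi b := epi_of_epi_fac hb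
    haveI := epi_towerδ Φ hT hTa j 0
    rw [← hb, ← Category.assoc, towerδ₀_natural Φ hT μ j]
    infer_instance

include hT hTa in
/-- classes of cycles of an acyclic exact tower present the derived functor -/
theorem desc_map_z_pic [IsIso (μ.z 0)] (j : ℕ) {W : B} (k : Φ.obj (T.Z (j + 1)) ⟶ W)
    (hk : Φ.map (T.p j) ≫ k = 0) :
    ∃ k' : (Φ.rightDerived (j + 1)).obj F ⟶ W, (Φ.map (μ.z (j + 1)) ≫ pic Φ F (j + 1)) ≫ k' = k := by
  haveI := isIso_rightDerived_z Φ hT hTa (hU := tw_isExact F) (isAcycX_of_injective Φ _) μ j 0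
  obtain ⟨k₁, hk₁⟩ := desc_towerδ₀ Φ hT hTa j k hk
  obtain ⟨c, hc⟩ := CokernelCofork.IsColimit.desc' (picIsCokernel Φ F j) (towerδ₀ Φ (tw_isExact F) j)
    (map_p_towerδ₀ Φ (tw_isExact F) j)
  replace hc : pic Φ F (j + 1) ≫ c = towerδ₀ Φ (tw_isExact F) j := hc
  refine ⟨c ≫ inv ((Φ.rightDerived (0 + 1)).map (μ.z j)) ≫ k₁, ?_⟩
  rw [Category.assoc, reassoc_of% hc, ← hk₁]
  have e := reassoc_of% (towerδ₀_natural Φ hT (hU := tw_isExact F) μ j)
  simp only [Category.assoc] at e ⊢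
  rw [e]
  simp

end Groth.Agent.BcLim5
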