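import Groth.Agent.EtLim8.Morph
import Groth.Agent.BcQCalc.VComp

/-!
# Direct images of maps over a commutative square
-/

set_option autoImplicit false
set_option linter.unusedSectionVars false
set_option linter.style.haveILetI false
set_option backward.isDefEq.respectTransparency false
set_option backward.isDefEq.respectTransparency.types false

universe u

open CategoryTheory CategoryTheory.Limits AlgebraicGeometry Opposite

noncomputable section

namespace Groth.Agent.BcLim5

open EtLim8

variable {X S X' S' : Scheme.{u}} {f : X ⟶ S} {g : S' ⟶ S} {f' : X' ⟶ S'} {g' : X' ⟶ X}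
  (w : g' ≫ f = f' ≫ g) {F : EtCoh.Ab X} {G : EtCoh.Ab X'}

/-- the direct image of a map over a square -/
def pushL (l : F ⟶ (EtCoh.push g').obj G) : (EtCoh.push f).obj F ⟶ (EtCoh.push g).obj ((EtCoh.push f').obj G) :=
  (EtCoh.pullPushAdj g).homEquiv _ _
    (EtCoh.baseChange0 f g f' g' w F ≫ (EtCoh.push f').map (((EtCoh.pullPushAdj g').homEquiv _ _).symm l))

/-- the canonical map between base changes along a square -/
def sqMap {V : S.Etale} {W : S'.Etale} (a : W.left ⟶ V.left) (wa : a ≫ V.hom = W.hom ≫ g) :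
    ((EtCoh.bc f').obj W).left ⟶ ((EtCoh.bc f).obj V).left :=
  pullback.lift (bcFst f' W ≫ a) (((EtCoh.bc f').obj W).hom ≫ g') (by
    rw [Category.assoc, wa, ← Category.assoc, bcFst_w, Category.assoc, ← w]
    exact (Category.assoc _ _ _).symm)

theorem sqMap_fst {V : S.Etale} {W : S'.Etale} (a : W.left ⟶ V.left) (wa : a ≫ V.hom = W.hom ≫ g) :
    sqMap w a wa ≫ bcFst f V = bcFst f' W ≫ a := pullback.lift_fst _ _ _

theorem sqMap_w {V : S.Etale} {W : S'.Etale} (a : W.left ⟶ V.left) (wa : a ≫ V.hom = W.hom ≫ g) :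
    sqMap w a wa ≫ ((EtCoh.bc f).obj V).hom = ((EtCoh.bc f').obj W).hom ≫ g' := pullback.lift_snd _ _ _

/-- the direct image of a map over a square, on sections -/
theorem res_pushL (l : F ⟶ (EtCoh.push g').obj G) {V : S.Etale} {W : S'.Etale} (a : W.left ⟶ V.left)
    (wa : a ≫ V.hom = W.hom ≫ g) (c : ((EtCoh.bc f').obj W).left ⟶ ((EtCoh.bc f).obj V).left)
    (wc : c ≫ ((EtCoh.bc f).obj V).hom = ((EtCoh.bc f').obj W).hom ≫ g') (hc : c ≫ bcFst f V = bcFst f' W ≫ a)
    (s : F.obj.obj (op ((EtCoh.bc f).obj V))) :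
    res g (pushL w l) a wa s = res g' l c wc s := by
  have e1 : pushL w l = (EtCoh.pullPushAdj g).homEquiv _ _ (EtCoh.baseChange0 f g f' g' w F) ≫
      (EtCoh.push g).map ((EtCoh.push f').map (((EtCoh.pullPushAdj g').homEquiv _ _).symm l)) :=
    Adjunction.homEquiv_naturality_right _ _ _
  rw [e1, res_comp_push_map]
  have e2 := BcQCalc.res_baseChange0 f g f' g' w F a wa (bcFst f' W) (bcFst_w f' W) c wc hc s
  rw [BcQCalc.res_id_bcFst] at e2
  refine (congrArg (((EtCoh.push f').map (((EtCoh.pullPushAdj g').homEquiv _ _).symm l)).hom.app (op W)).hom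
    e2).trans ?_
  refine (res_homEquiv g' F (((EtCoh.pullPushAdj g').homEquiv _ _).symm l) c wc s).symm.trans ?_
  rw [Equiv.apply_symm_apply]

theorem pushL_natural {F' : EtCoh.Ab X} (v : F ⟶ F') {G' : EtCoh.Ab X'} (v' : G ⟶ G')
    (l : F ⟶ (EtCoh.push g').obj G) (l' : F' ⟶ (EtCoh.push g').obj G')
    (h : v ≫ l' = l ≫ (EtCoh.push g').map v') :
    (EtCoh.push f).map v ≫ pushL w l' = pushL w l ≫ (EtCoh.push g).map ((EtCoh.push f').map v') := by
  rw [pushL, pushL, ← Adjunction.homEquiv_naturality_left, ← Adjunction.homEquiv_naturality_right]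
  refine congrArg ((EtCoh.pullPushAdj g).homEquiv _ _) ?_
  rw [BcQCalc.baseChange0_naturality_assoc, Category.assoc, ← Functor.map_comp, ← Functor.map_comp,
    ← Adjunction.homEquiv_naturality_left_symm, h, Adjunction.homEquiv_naturality_right_symm]

end Groth.Agent.BcLim5
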