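import Groth.Agent.BcLim5.Compose
import Groth.Agent.EtLim8.Coh
import Groth.Agent.BcLim5.PushL
import Groth.Agent.BcQCalc.VComp

/-!
# Base change morphisms for maps over a square
-/

set_option autoImplicit false
set_option linter.unusedSectionVars false
set_option linter.style.haveILetI false
set_option backward.isDefEq.respectTransparency false
set_option backward.isDefEq.respectTransparency.types false

universe u

open CategoryTheory CategoryTheory.Limits AlgebraicGeometry Opposite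

attribute [-instance] CategoryTheory.catToReflQuiver

noncomputable section

namespace Groth.Agent.BcLim5

open EtLim8 BcQCalc

attribute [local instance] preservesFiniteLimits_pull

section nat

variable {X S X' S' : Scheme.{u}} (f : X ⟶ S) (g : S' ⟶ S) (f' : X' ⟶ S') (g' : X' ⟶ X)
  (w : g' ≫ f = f' ≫ g) [PreservesFiniteLimits (EtCoh.pull g')]

/-- The base change morphism is natural. -/
theorem bcQ_naturality {F G : EtCoh.Ab X} (v : F ⟶ G) (q : ℕ) :
    (EtCoh.pull g).map ((EtCoh.Rpush f q).map v) ≫ EtBC.bcQ f g f' g' w q G =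
      EtBC.bcQ f g f' g' w q F ≫ (EtCoh.Rpush f' q).map ((EtCoh.pull g').map v) := by
  obtain ⟨φF, hF⟩ := exists_pullHom g' F
  obtain ⟨φG, hG⟩ := exists_pullHom g' G
  obtain ⟨ψ, hψ₀⟩ := Tower.Hom.exists_of (T' := tw G) (tw_isExact F) (inv (aug F) ≫ v ≫ aug G)
  have hψ : aug F ≫ ψ.z 0 = v ≫ aug G := by rw [hψ₀, IsIso.hom_inv_id_assoc]
  obtain ⟨ψ', hψ₁⟩ := Tower.Hom.exists_of (T' := tw ((EtCoh.pull g').obj G)) (tw_isExact ((EtCoh.pull g').obj F))
    (inv (aug ((EtCoh.pull g').obj F)) ≫ (EtCoh.pull g').map v ≫ aug _)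
  have hψ' : aug ((EtCoh.pull g').obj F) ≫ ψ'.z 0 = (EtCoh.pull g').map v ≫ aug _ := by
    rw [hψ₁, IsIso.hom_inv_id_assoc]
  haveI : Epi ((EtCoh.pull g).map (pic (EtCoh.push f) F q)) := inferInstance
  rw [← cancel_epi ((EtCoh.pull g).map (pic (EtCoh.push f) F q)), ← Functor.map_comp_assoc]
  erw [pic_rightDerived_map (EtCoh.push f) v ψ hψ q]
  rw [Functor.map_comp, Category.assoc, bcQ_pic f g f' g' w G φG hG q, baseChange0_naturality_assoc,
    reassoc_of% (bcQ_pic f g f' g' w F φF hF q)]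
  erw [pic_rightDerived_map (EtCoh.push f') ((EtCoh.pull g').map v) ψ' hψ' q]
  refine congrArg (EtCoh.baseChange0 f g f' g' w ((tw F).Z q) ≫ ·) ?_
  rw [← Functor.map_comp_assoc, ← Functor.map_comp_assoc]
  have h0 : ((ψ.map (EtCoh.pull g')).comp φG).z 0 = (φF.comp ψ').z 0 := by
    rw [← cancel_epi ((EtCoh.pull g').map (aug F)), Tower.Hom.comp_z, Tower.Hom.comp_z, Tower.Hom.map_z,
      ← Functor.map_comp_assoc, hψ, Functor.map_comp, Category.assoc, hG, reassoc_of% hF, hψ']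
  exact pic_z_eq (EtCoh.push f') ((tw_isExact F).map (EtCoh.pull g')) _ _ _ h0 q

end nat

variable {X S X' S' : Scheme.{u}} {f : X ⟶ S} {g : S' ⟶ S} {f' : X' ⟶ S'} {g' : X' ⟶ X}
  (w : g' ≫ f = f' ≫ g) {F : EtCoh.Ab X} {G : EtCoh.Ab X'} (q : ℕ)

/-- the base change morphism of a map over a square, in adjoint form -/
def bcL (l : F ⟶ (EtCoh.push g').obj G) :
    (EtCoh.Rpush f q).obj F ⟶ (EtCoh.push g).obj ((EtCoh.Rpush f' q).obj G) :=
  (EtCoh.pullPushAdj g).homEquiv _ _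
    (EtBC.bcQ f g f' g' w q F ≫ (EtCoh.Rpush f' q).map (((EtCoh.pullPushAdj g').homEquiv _ _).symm l))

theorem bcL_natural {F' : EtCoh.Ab X} (v : F ⟶ F') {G' : EtCoh.Ab X'} (v' : G ⟶ G')
    (l : F ⟶ (EtCoh.push g').obj G) (l' : F' ⟶ (EtCoh.push g').obj G')
    (h : v ≫ l' = l ≫ (EtCoh.push g').map v') :
    (EtCoh.Rpush f q).map v ≫ bcL w q l' = bcL w q l ≫ (EtCoh.push g).map ((EtCoh.Rpush f' q).map v') := by
  rw [bcL, bcL, ← Adjunction.homEquiv_naturality_left, ← Adjunction.homEquiv_naturality_right]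
  refine congrArg ((EtCoh.pullPushAdj g).homEquiv _ _) ?_
  rw [← Category.assoc, bcQ_naturality f g f' g' w v q, Category.assoc, Category.assoc, ← Functor.map_comp,
    ← Functor.map_comp, ← Adjunction.homEquiv_naturality_left_symm, h, Adjunction.homEquiv_naturality_right_symm]

section comp

variable {S'' X'' : Scheme.{u}} {i : S'' ⟶ S'} {f'' : X'' ⟶ S''} {k : X'' ⟶ X'} (w' : k ≫ f' = f'' ≫ i)
  {g₃ : S'' ⟶ S} {g'₃ : X'' ⟶ X} (hg₃ : i ≫ g = g₃) (hg'₃ : k ≫ g' = g'₃) (w'' : g'₃ ≫ f = f'' ≫ g₃)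
  {K : EtCoh.Ab X''}

include hg₃ hg'₃ in
/-- base change morphisms compose -/
theorem compat_bcL {l₁ : F ⟶ (EtCoh.push g').obj G} {l₂ : G ⟶ (EtCoh.push k).obj K}
    {l₃ : F ⟶ (EtCoh.push g'₃).obj K} (hl : Compat l₁ l₂ l₃) :
    Compat (bcL w q l₁) (bcL w' q l₂) (bcL w'' q l₃) := by
  subst hg₃ hg'₃
  obtain ⟨v, rfl⟩ := ((EtCoh.pullPushAdj g').homEquiv _ _).surjective l₁
  obtain ⟨v', rfl⟩ := ((EtCoh.pullPushAdj k).homEquiv _ _).surjective l₂
  let γ := (EtCore.pullComp k g').hom.app F ≫ (EtCoh.pull k).map v ≫ v'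
  have e : l₃ = (EtCoh.pullPushAdj (k ≫ g')).homEquiv _ _ γ :=
    Compat.unique rfl hl (compat_of_pullComp rfl v v' γ (by simp [γ, EtCore.pullCongr]))
  subst e
  refine compat_of_pullComp rfl _ _ _ ?_
  simp only [Equiv.symm_apply_apply]
  rw [bcQ_vcomp f g f' g' w i f'' k w' w'' F q]
  simp only [EtCore.pullCongr, eqToIso_refl, Iso.refl_trans, Category.assoc, Functor.map_comp, γ]
  refine congrArg (fun r => (EtCore.pullComp i g).hom.app _ ≫ (EtCoh.pull i).map (EtBC.bcQ f g f' g' w q F) ≫ r) ?_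
  rw [← Functor.map_comp_assoc (EtCoh.Rpush f'' q) ((EtCore.pullComp k g').inv.app F), Iso.inv_hom_id_app]
  erw [CategoryTheory.Functor.map_id, Category.id_comp]
  rw [← Category.assoc, ← bcQ_naturality f' i f'' k w' v q, Category.assoc]

end comp

/-- the class of a cycle of a tower compared with the resolution -/
def picT {F : EtCoh.Ab X} {T : Tower (EtCoh.Ab X)} (f : X ⟶ S) (μ : Tower.Hom T (tw F)) (q : ℕ) :
    (EtCoh.push f).obj (T.Z q) ⟶ (EtCoh.Rpush f q).obj F :=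
  (EtCoh.push f).map (μ.z q) ≫ pic (EtCoh.push f) F q

/-- the base change morphism on cycles of towers -/
theorem picT_bcL {T : Tower (EtCoh.Ab X)} (hT : T.IsExact) (μ : Tower.Hom T (tw F)) {T' : Tower (EtCoh.Ab X')}
    (μ' : Tower.Hom T' (tw G)) (ψ : Tower.Hom T (T'.map (EtCoh.push g'))) (l : F ⟶ (EtCoh.push g').obj G)
    (h : ψ.z 0 ≫ (EtCoh.push g').map (μ'.z 0 ≫ inv (aug G)) = (μ.z 0 ≫ inv (aug F)) ≫ l) :
    picT f μ q ≫ bcL w q l = pushL w (ψ.z q) ≫ (EtCoh.push g).map (picT f' μ' q) := by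
  let adj := EtCoh.pullPushAdj g'
  obtain ⟨φ, hφ⟩ := exists_pullHom g' F
  let v := (adj.homEquiv _ _).symm l
  obtain ⟨χ, hχ₀⟩ := Tower.Hom.exists_of (T' := tw G) (tw_isExact ((EtCoh.pull g').obj F))
    (inv (aug ((EtCoh.pull g').obj F)) ≫ v ≫ aug G)
  have hχ : aug ((EtCoh.pull g').obj F) ≫ χ.z 0 = v ≫ aug G := by rw [hχ₀, IsIso.hom_inv_id_assoc]
  let ψ' : Tower.Hom (T.map (EtCoh.pull g')) T' :=
    { z := fun j => (adj.homEquiv _ _).symm (ψ.z j)
      x := fun j => (adj.homEquiv _ _).symm (ψ.x j)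
      comm_i := fun j => (adj.homEquiv_naturality_left_symm (T.i j) (ψ.x j)).symm.trans
        ((congrArg (adj.homEquiv _ _).symm (ψ.comm_i j)).trans (adj.homEquiv_naturality_right_symm (ψ.z j) (T'.i j)))
      comm_p := fun j => (adj.homEquiv_naturality_left_symm (T.p j) (ψ.z (j + 1))).symm.trans
        ((congrArg (adj.homEquiv _ _).symm (ψ.comm_p j)).trans (adj.homEquiv_naturality_right_symm (ψ.x j) (T'.p j))) }
  let A := ((μ.map (EtCoh.pull g')).comp φ).comp χ
  let B := ψ'.comp μ'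
  have h0 : A.z 0 = B.z 0 := by
    have e : φ.z 0 = (EtCoh.pull g').map (inv (aug F)) ≫ aug ((EtCoh.pull g').obj F) := by
      rw [← cancel_epi ((EtCoh.pull g').map (aug F)), hφ, ← Functor.map_comp_assoc, IsIso.hom_inv_id,
        CategoryTheory.Functor.map_id, Category.id_comp]
    have h1 := congrArg (adj.homEquiv _ _).symm h
    rw [adj.homEquiv_naturality_right_symm, adj.homEquiv_naturality_left_symm, ← cancel_mono (aug G),
      Category.assoc, Category.assoc, Category.assoc, IsIso.inv_hom_id, Category.comp_id] at h1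
    simp only [A, B, ψ', Tower.Hom.comp_z, Tower.Hom.map_z, e, Category.assoc]
    rw [hχ, ← Category.assoc ((EtCoh.pull g').map (μ.z 0)), ← Functor.map_comp]
    exact h1.symm
  rw [bcL, pushL, picT, picT, ← Adjunction.homEquiv_naturality_left, ← Adjunction.homEquiv_naturality_right]
  refine congrArg ((EtCoh.pullPushAdj g).homEquiv _ _) ?_
  rw [Functor.map_comp, Category.assoc, reassoc_of% (bcQ_pic f g f' g' w F φ hφ q)]
  erw [pic_rightDerived_map (EtCoh.push f') v χ hχ q]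
  rw [baseChange0_naturality_assoc, Category.assoc]
  refine congrArg (EtCoh.baseChange0 f g f' g' w (T.Z q) ≫ ·) ?_
  simp only [← Functor.map_comp_assoc]
  exact pic_z_eq (EtCoh.push f') (hT.map (EtCoh.pull g')) G A B h0 q

end Groth.Agent.BcLim5
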