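import Groth.Agent.EtLim8.Coinduced
import Groth.Agent.EtLim8.Colim

/-!
# Algebra of compatible maps over morphisms of schemes
-/

set_option autoImplicit false
set_option linter.style.haveILetI false
set_option linter.unusedSectionVars false
set_option linter.unusedVariables false
set_option backward.isDefEq.respectTransparency.types false

universe u

open CategoryTheory CategoryTheory.Limits AlgebraicGeometry Opposite

noncomputable section

namespace Groth.Agent.BcLim5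

open EtLim8

variable {A B C : Scheme.{u}} {t₁ : B ⟶ A} {t₂ : C ⟶ B} {t₁₂ : C ⟶ A} (h₁ : t₂ ≫ t₁ = t₁₂)
  {F : EtCoh.Ab A} {G : EtCoh.Ab B} {H : EtCoh.Ab C}

/-- the composite of two maps over morphisms of schemes -/
def compL (a : F ⟶ (EtCoh.push t₁).obj G) (b : G ⟶ (EtCoh.push t₂).obj H) : F ⟶ (EtCoh.push t₁₂).obj H :=
  a ≫ (EtCoh.push t₁).map b ≫ (pushCmp t₁ t₂ t₁₂ h₁ H).inv

theorem compat_compL (a : F ⟶ (EtCoh.push t₁).obj G) (b : G ⟶ (EtCoh.push t₂).obj H) :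
    Compat a b (compL h₁ a b) := by
  rw [compat_iff h₁, compL, Category.assoc, Category.assoc, Iso.inv_hom_id, Category.comp_id]

/-- the factorisation of a map through an inverse image -/
def liftL (γ : F ⟶ (EtCoh.push t₁₂).obj H) : (EtCoh.pull t₁).obj F ⟶ (EtCoh.push t₂).obj H :=
  ((EtCoh.pullPushAdj t₁).homEquiv _ _).symm (γ ≫ (pushCmp t₁ t₂ t₁₂ h₁ H).hom)

theorem compat_liftL (γ : F ⟶ (EtCoh.push t₁₂).obj H) :
    Compat ((EtCoh.pullPushAdj t₁).unit.app F) (liftL h₁ γ) γ := by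
  rw [compat_iff h₁]
  exact ((EtCoh.pullPushAdj t₁).homEquiv_unit F _ _).symm.trans (Equiv.apply_symm_apply _ _)

theorem Compat.unique_unit {m m' : (EtCoh.pull t₁).obj F ⟶ (EtCoh.push t₂).obj H}
    {γ : F ⟶ (EtCoh.push t₁₂).obj H} (h : Compat ((EtCoh.pullPushAdj t₁).unit.app F) m γ)
    (h' : Compat ((EtCoh.pullPushAdj t₁).unit.app F) m' γ) (hw : t₂ ≫ t₁ = t₁₂) : m = m' := by
  rw [compat_iff hw] at h h'
  exact ((EtCoh.pullPushAdj t₁).homEquiv _ _).injective (((EtCoh.pullPushAdj t₁).homEquiv_unit F _ m).trans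
    ((h.trans h'.symm).trans ((EtCoh.pullPushAdj t₁).homEquiv_unit F _ m').symm))

theorem Compat.push_map {a : F ⟶ (EtCoh.push t₁).obj G} {b : G ⟶ (EtCoh.push t₂).obj H}
    {x : F ⟶ (EtCoh.push t₁₂).obj H} (h : Compat a b x) {H' : EtCoh.Ab C} (v : H ⟶ H') :
    Compat a (b ≫ (EtCoh.push t₂).map v) (x ≫ (EtCoh.push t₁₂).map v) := by
  intro V W W' p w q w' e we hbe s
  rw [res_comp_push_map, res_comp_push_map, h V W W' p w q w' e we hbe s]

theorem Compat.comp_left {a : F ⟶ (EtCoh.push t₁).obj G} {b : G ⟶ (EtCoh.push t₂).obj H}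
    {x : F ⟶ (EtCoh.push t₁₂).obj H} (h : Compat a b x) {F' : EtCoh.Ab A} (v : F' ⟶ F) :
    Compat (v ≫ a) b (v ≫ x) := by
  intro V W W' p w q w' e we hbe s
  rw [res_comp_left, res_comp_left, h V W W' p w q w' e we hbe]

theorem compat_map_left_iff {a : F ⟶ (EtCoh.push t₁).obj G} {G' : EtCoh.Ab B} (v : G ⟶ G')
    {b : G' ⟶ (EtCoh.push t₂).obj H} {x : F ⟶ (EtCoh.push t₁₂).obj H} :
    Compat (a ≫ (EtCoh.push t₁).map v) b x ↔ Compat a (v ≫ b) x := by
  constructor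
  · intro h V W W' p w q w' e we hbe s
    rw [res_comp_left, ← h V W W' p w q w' e we hbe s, res_comp_push_map]
  · intro h V W W' p w q w' e we hbe s
    rw [res_comp_push_map, ← h V W W' p w q w' e we hbe s, res_comp_left]

theorem Compat.unique_left {a a' : F ⟶ (EtCoh.push t₁).obj ((EtCoh.push t₂).obj H)}
    {x : F ⟶ (EtCoh.push t₁₂).obj H} (h : Compat a (𝟙 _) x) (h' : Compat a' (𝟙 _) x) (hw : t₂ ≫ t₁ = t₁₂) :
    a = a' := by
  rw [compat_iff hw, CategoryTheory.Functor.map_id, Category.comp_id] at h h'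
  exact h.trans h'.symm

/-- the factorisation of a map through a direct image -/
def coliftL (γ : F ⟶ (EtCoh.push t₁₂).obj H) : F ⟶ (EtCoh.push t₁).obj ((EtCoh.push t₂).obj H) :=
  γ ≫ (pushCmp t₁ t₂ t₁₂ h₁ H).hom

theorem compat_coliftL (γ : F ⟶ (EtCoh.push t₁₂).obj H) : Compat (coliftL h₁ γ) (𝟙 _) γ := by
  rw [compat_iff h₁, CategoryTheory.Functor.map_id, Category.comp_id, coliftL]

variable {D : Scheme.{u}} {t₃ : D ⟶ C} {t₂₃ : D ⟶ B} {t : D ⟶ A} (h₂ : t₃ ≫ t₂ = t₂₃) (h₃ : t₂₃ ≫ t₁ = t)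
  (h₄ : t₃ ≫ t₁₂ = t) {K : EtCoh.Ab D} {a : F ⟶ (EtCoh.push t₁).obj G} {b : G ⟶ (EtCoh.push t₂).obj H}
  {c : H ⟶ (EtCoh.push t₃).obj K} {ab : F ⟶ (EtCoh.push t₁₂).obj H} {bc : G ⟶ (EtCoh.push t₂₃).obj K}
  {x : F ⟶ (EtCoh.push t).obj K}

include h₁ h₂ h₃ h₄

theorem Compat.assoc_iff (hab : Compat a b ab) (hbc : Compat b c bc) : Compat ab c x ↔ Compat a bc x := by
  rw [compat_iff h₄, compat_iff h₃]
  rw [compat_iff h₁] at hab
  rw [compat_iff h₂] at hbc
  rw [← cancel_mono (pushCmp t₁ t₂ t₁₂ h₁ ((EtCoh.push t₃).obj K)).hom, Category.assoc, Category.assoc,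
    pushCmp_natural, ← Category.assoc, hab.symm, Category.assoc, ← Functor.map_comp, hbc,
    ← pushCmp_assoc h₁ h₂ h₃ h₄, Functor.map_comp, ← Category.assoc, ← Category.assoc x,
    cancel_mono]

end Groth.Agent.BcLim5
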