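import Groth.Agent.EtLim8.PushSys
import Groth.Agent.BcLim5.Compose

/-!
# Universal targets of systems
-/

set_option autoImplicit false
set_option linter.style.haveILetI false
set_option linter.unusedSectionVars false
set_option linter.unusedVariables false
set_option backward.isDefEq.respectTransparency false
set_option backward.isDefEq.respectTransparency.types false

universe u

open CategoryTheory CategoryTheory.Limits AlgebraicGeometry Opposite

attribute [-instance] CategoryTheory.catToReflQuiver

noncomputable section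

namespace Groth.Agent.BcLim5

open EtLim8

variable {ι : Type u} [Preorder ι] {Xs : ιᵒᵖ ⥤ Scheme.{u}} {c : Cone Xs} {S S' : Sys Xs}

/-- the image of a target under a map -/
def mapTarget (T : Target S c) {Z : EtCoh.Ab c.pt} (η : T.G ⟶ Z) : Target S c where
  G := Z
  g i := T.g i ≫ (EtCoh.push (pr c i)).map η
  comp i j h := Compat.push_map (T.comp h) η

/-- the restriction of a target along a morphism of systems -/
def comapTarget (θ : SysHom S S') (T : Target S' c) : Target S c where
  G := T.G
  g i := θ.app i ≫ T.g i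
  comp i j h := by
    intro V W W' a w b w' e we hbe s
    rw [res_comp_left, res_comp_left, ← res_comp_push_map, ← θ.comm h, res_comp_left, T.comp h V W W' a w b w' e we hbe]

/-- a universal target -/
structure IsCol (T : Target S c) : Prop where
  desc : ∀ T' : Target S c, ∃ η : T.G ⟶ T'.G, ∀ i, T.g i ≫ (EtCoh.push (pr c i)).map η = T'.g i
  ext : ∀ {Z : EtCoh.Ab c.pt} (η η' : T.G ⟶ Z),
    (∀ i, T.g i ≫ (EtCoh.push (pr c i)).map η = T.g i ≫ (EtCoh.push (pr c i)).map η') → η = η'

theorem isIso_of_isCol {T T' : Target S c} (hT : IsCol T) (hT' : IsCol T') (η : T.G ⟶ T'.G)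
    (h : ∀ i, T.g i ≫ (EtCoh.push (pr c i)).map η = T'.g i) : IsIso η := by
  obtain ⟨η', h'⟩ := hT'.desc T
  refine ⟨η', hT.ext _ _ fun i => ?_, hT'.ext _ _ fun i => ?_⟩
  · rw [Functor.map_comp, ← Category.assoc, h, h', CategoryTheory.Functor.map_id, Category.comp_id]
  · rw [Functor.map_comp, ← Category.assoc, h', h, CategoryTheory.Functor.map_id, Category.comp_id]

theorem isCol_mapTarget {T : Target S c} (hT : IsCol T) {Z : EtCoh.Ab c.pt} (η : T.G ⟶ Z) [IsIso η] :
    IsCol (mapTarget T η) where
  desc T' := by
    obtain ⟨ζ, hζ⟩ := hT.desc T'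
    refine ⟨inv η ≫ ζ, fun i => ?_⟩
    change (T.g i ≫ _) ≫ _ = _
    rw [Category.assoc, ← Functor.map_comp, ← Category.assoc η, IsIso.hom_inv_id, Category.id_comp, hζ]
  ext {Z'} η₁ η₂ h := by
    rw [← cancel_epi η]
    refine hT.ext (η ≫ η₁) (η ≫ η₂) fun i => ?_
    rw [Functor.map_comp, Functor.map_comp, ← Category.assoc, ← Category.assoc]
    exact h i

/-- the inverse of a morphism of systems made of isomorphisms -/
def invHom (θ : SysHom S S') [∀ i, IsIso (θ.app i)] : SysHom S' S where
  app i := inv (θ.app i)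
  comm i j h := by
    rw [IsIso.inv_comp_eq, ← Category.assoc, θ.comm h, Category.assoc, ← Functor.map_comp, IsIso.hom_inv_id,
      CategoryTheory.Functor.map_id, Category.comp_id]

theorem isCol_comapTarget (θ : SysHom S S') [∀ i, IsIso (θ.app i)] {T : Target S' c} (hT : IsCol T) :
    IsCol (comapTarget θ T) where
  desc T' := by
    obtain ⟨η, hη⟩ := hT.desc (comapTarget (invHom θ) T')
    refine ⟨η, fun i => ?_⟩
    have e := hη i
    change T.g i ≫ _ = inv (θ.app i) ≫ T'.g i at e
    change (θ.app i ≫ T.g i) ≫ _ = _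
    rw [Category.assoc, e, IsIso.hom_inv_id_assoc]
  ext {Z} η η' h := hT.ext η η' fun i => by
    have e := h i
    change (θ.app i ≫ T.g i) ≫ _ = (θ.app i ≫ T.g i) ≫ _ at e
    rwa [Category.assoc, Category.assoc, cancel_epi] at e

variable [IsDirected ι (· ≤ ·)] [Nonempty ι]

theorem diag_target_g (hU : S.IsUnital) (i : ι) :
    (S.diag c hU).target.g i = (EtCoh.pullPushAdj (pr c i)).homEquiv _ _ (colimit.ι (S.diag c hU).G i) := by
  change (EtCoh.pullPushAdj (pr c i)).homEquiv _ _ (𝟙 _ ≫ colimit.ι (S.diag c hU).G i) = _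
  rw [Category.id_comp]

/-- the map out of the colimit of a system given by a target -/
def descTarget (hU : S.IsUnital) (T : Target S c) : colimit (S.diag c hU).G ⟶ T.G :=
  S.descColim (c := c) hU (fun j => ((EtCoh.pullPushAdj (pr c j)).homEquiv _ _).symm (T.g j))
    (fun i j h => by rw [Equiv.apply_symm_apply, Equiv.apply_symm_apply]; exact T.comp h)

theorem target_g_descTarget (hU : S.IsUnital) (T : Target S c) (i : ι) :
    (S.diag c hU).target.g i ≫ (EtCoh.push (pr c i)).map (descTarget hU T) = T.g i := by
  rw [diag_target_g hU]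
  refine ((EtCoh.pullPushAdj (pr c i)).homEquiv_naturality_right _ _).symm.trans ?_
  exact (congrArg ((EtCoh.pullPushAdj (pr c i)).homEquiv _ _)
    (S.ι_descColim hU (fun j => ((EtCoh.pullPushAdj (pr c j)).homEquiv _ _).symm (T.g j))
      (fun i j h => by rw [Equiv.apply_symm_apply, Equiv.apply_symm_apply]; exact T.comp h) i)).trans
    (Equiv.apply_symm_apply _ _)

theorem isCol_diag (hU : S.IsUnital) : IsCol (S.diag c hU).target where
  desc T' := ⟨descTarget hU T', target_g_descTarget hU T'⟩
  ext {Z} η η' h := by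
    refine colimit.hom_ext fun i => ?_
    have e := h i
    rw [diag_target_g hU] at e
    exact ((EtCoh.pullPushAdj (pr c i)).homEquiv _ _).injective
      (((EtCoh.pullPushAdj (pr c i)).homEquiv_naturality_right _ η).trans
        (e.trans ((EtCoh.pullPushAdj (pr c i)).homEquiv_naturality_right _ η').symm))

theorem isCol_of_isColim [hA : ∀ {a b : ιᵒᵖ} (h : a ⟶ b), IsAffineHom (Xs.map h)] (hU : S.IsUnital) {T : Target S c} (hT : T.IsColim) : IsCol T := by
  haveI : IsIso (descTarget hU T) := isIso_descColim_of_isColim S hU T hT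
  have h := isCol_mapTarget (isCol_diag (c := c) hU) (descTarget hU T)
  have e : mapTarget (S.diag c hU).target (descTarget hU T) = T := by
    cases T
    simp only [mapTarget, target_g_descTarget]
  rwa [e] at h

end Groth.Agent.BcLim5
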