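import Groth.Agent.BcLim5.Deg0
import Groth.Agent.BcLim5.Col
import Groth.Agent.BcLim5.BcL
import Groth.Agent.BcLim5.Acyclic2
import Groth.Agent.EtLim8.Coinduced
import Groth.Agent.EtLim8.Coh

/-!
# Continuity of higher direct images
-/

set_option autoImplicit false
set_option linter.style.haveILetI false
set_option linter.unusedSectionVars false
set_option linter.unusedVariables false
set_option backward.isDefEq.respectTransparency false
set_option backward.isDefEq.respectTransparency.types false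

universe u

open CategoryTheory CategoryTheory.Limits AlgebraicGeometry Opposite

attribute [-instance] CategoryTheory.catToReflQuiver

noncomputable section

namespace Groth.Agent.BcLim5

open EtLim8 BcQCalc

attribute [local instance] preservesFiniteLimits_pull

variable {ι : Type u} [Preorder ι] {Ts Ss : ιᵒᵖ ⥤ Scheme.{u}} (gN : Ts ⟶ Ss) (q : ℕ)

/-- the higher direct images of a system -/
def rpushSys (S : Sys Ts) : Sys Ss where
  F i := (EtCoh.Rpush (gN.app (op i)) q).obj (S.F i)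
  l := fun i j h => bcL (stage_w gN h) q (S.l h)
  comp := fun i j k hij hjk => compat_bcL (stage_w gN hij) q (stage_w gN hjk) (tr_comp Ss hij hjk)
    (tr_comp Ts hij hjk) (stage_w gN (hij.trans hjk)) (S.comp hij hjk)

/-- morphisms of systems have higher direct images -/
def rpushHom {S S' : Sys Ts} (η : SysHom S S') : SysHom (rpushSys gN q S) (rpushSys gN q S') where
  app i := (EtCoh.Rpush (gN.app (op i)) q).map (η.app i)
  comm i j h := bcL_natural (stage_w gN h) q (η.app i) (η.app j) (S.l h) (S'.l h) (η.comm h)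

variable {cT : Cone Ts} {cS : Cone Ss} {g : cT.pt ⟶ cS.pt} (hg : ∀ i, pr cT i ≫ gN.app (op i) = g ≫ pr cS i)

/-- the higher direct image of a target -/
def rpushTarget {S : Sys Ts} (T : Target S cT) : Target (rpushSys gN q S) cS where
  G := (EtCoh.Rpush g q).obj T.G
  g i := bcL (hg i) q (T.g i)
  comp := fun i j h => compat_bcL (stage_w gN h) q (hg j) (pr_tr cS h) (pr_tr cT h) (hg i) (T.comp h)

section towers

theorem aug_compat {C D : Type*} [Category C] [Category D] (P : D ⥤ C) {A A' : C} {B B' : D} (z : A ⟶ P.obj B)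
    (a : A ⟶ A') [IsIso a] (b : B ⟶ B') [IsIso b] : z ≫ P.map (b ≫ inv b) = (a ≫ inv a) ≫ z := by
  simp

variable [IsDirected ι (· ≤ ·)] [Nonempty ι] [hAT : ∀ {a b : ιᵒᵖ} (h : a ⟶ b), IsAffineHom (Ts.map h)]
  (S₀ : Sys Ts) (hU₀ : S₀.IsUnital)

/-- cycles of the resolution of a system by coinduced systems -/
def zSys : ℕ → {S : Sys Ts // S.IsUnital}
  | 0 => ⟨S₀, hU₀⟩
  | n + 1 => ⟨(toCoind (zSys n).1).coker, (toCoind (zSys n).1).coker_isUnital (coind_isUnital _)⟩

/-- terms of the resolution -/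
abbrev jSys (n : ℕ) : Sys Ts := coind (zSys S₀ hU₀ n).1

theorem jSys_isUnital (n : ℕ) : (jSys S₀ hU₀ n).IsUnital := coind_isUnital _

/-- inclusion of cycles -/
abbrev jIn (n : ℕ) : SysHom (zSys S₀ hU₀ n).1 (jSys S₀ hU₀ n) := toCoind _

/-- projection to cycles -/
abbrev jOut (n : ℕ) : SysHom (jSys S₀ hU₀ n) (zSys S₀ hU₀ (n + 1)).1 := (toCoind (zSys S₀ hU₀ n).1).cokerπ

/-- the tower at a stage -/
def stageTower (i : ι) : Tower (EtCoh.Ab (Ts.obj (op i))) where
  Z n := (zSys S₀ hU₀ n).1.F i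
  X n := (jSys S₀ hU₀ n).F i
  i n := (jIn S₀ hU₀ n).app i
  p n := (jOut S₀ hU₀ n).app i
  w n := cokernel.condition _

theorem stageTower_isExact (i : ι) : (stageTower S₀ hU₀ i).IsExact := fun n =>
  (jIn S₀ hU₀ n).stageSES_shortExact (fun k => mono_toCoind _ (zSys S₀ hU₀ n).2 k) i

instance injective_stageTower (i : ι) (n : ℕ) : Injective ((stageTower S₀ hU₀ i).X n) := injective_coind _ i

/-- transition between the towers -/
def stageTrans {i j : ι} (h : i ≤ j) :
    Tower.Hom (stageTower S₀ hU₀ i) ((stageTower S₀ hU₀ j).map (EtCoh.push (tr Ts h))) where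
  z n := (zSys S₀ hU₀ n).1.l h
  x n := (jSys S₀ hU₀ n).l h
  comm_i n := (jIn S₀ hU₀ n).comm h
  comm_p n := (jOut S₀ hU₀ n).comm h

/-- comparison with the injective resolution at a stage -/
def stageCompare (i : ι) : Tower.Hom (stageTower S₀ hU₀ i) (tw (S₀.F i)) :=
  (Tower.Hom.exists_of (T' := tw (S₀.F i)) (stageTower_isExact S₀ hU₀ i) (aug (S₀.F i))).choose

theorem stageCompare_zero (i : ι) : (stageCompare S₀ hU₀ i).z 0 = aug (S₀.F i) :=
  (Tower.Hom.exists_of (T' := tw (S₀.F i)) (stageTower_isExact S₀ hU₀ i) (aug (S₀.F i))).choose_spec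

theorem target_g_colimMap {S S' : Sys Ts} (η : SysHom S S') (hU : S.IsUnital) (hU' : S'.IsUnital) (i : ι) :
    η.app i ≫ (S'.diag cT hU').target.g i =
      (S.diag cT hU).target.g i ≫ (EtCoh.push (pr cT i)).map (colimMap (η.diagMap hU hU')) := by
  rw [diag_target_g hU', diag_target_g hU, ← Adjunction.homEquiv_naturality_left,
    ← Adjunction.homEquiv_naturality_right]
  exact congrArg ((EtCoh.pullPushAdj (pr cT i)).homEquiv _ _) (colimit.ι_map (η.diagMap hU hU') i).symm

variable (cT) in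
/-- the tower on the limit -/
def limTower : Tower (EtCoh.Ab cT.pt) where
  Z n := colimit ((zSys S₀ hU₀ n).1.diag cT (zSys S₀ hU₀ n).2).G
  X n := colimit ((jSys S₀ hU₀ n).diag cT (jSys_isUnital S₀ hU₀ n)).G
  i n := colimMap ((jIn S₀ hU₀ n).diagMap (zSys S₀ hU₀ n).2 (jSys_isUnital S₀ hU₀ n))
  p n := colimMap ((jOut S₀ hU₀ n).diagMap (jSys_isUnital S₀ hU₀ n) (zSys S₀ hU₀ (n + 1)).2)
  w n := (((jIn S₀ hU₀ n).diagSES (c := cT) (zSys S₀ hU₀ n).2 (jSys_isUnital S₀ hU₀ n)).map colim).zero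

theorem limTower_isExact : (limTower cT S₀ hU₀).IsExact := fun n =>
  (jIn S₀ hU₀ n).colimSES_shortExact _ _ (fun k => mono_toCoind _ (zSys S₀ hU₀ n).2 k)

/-- from a stage to the limit -/
def limTrans (i : ι) : Tower.Hom (stageTower S₀ hU₀ i) ((limTower cT S₀ hU₀).map (EtCoh.push (pr cT i))) where
  z n := ((zSys S₀ hU₀ n).1.diag cT (zSys S₀ hU₀ n).2).target.g i
  x n := ((jSys S₀ hU₀ n).diag cT (jSys_isUnital S₀ hU₀ n)).target.g i
  comm_i n := target_g_colimMap (jIn S₀ hU₀ n) _ _ i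
  comm_p n := target_g_colimMap (jOut S₀ hU₀ n) _ _ i

variable (cT) in
/-- comparison with the injective resolution on the limit -/
def limCompare : Tower.Hom (limTower cT S₀ hU₀) (tw (colimit (S₀.diag cT hU₀).G)) :=
  (Tower.Hom.exists_of (T' := tw (colimit (S₀.diag cT hU₀).G)) (limTower_isExact S₀ hU₀)
    (aug (colimit (S₀.diag cT hU₀).G))).choose

theorem limCompare_zero : (limCompare cT S₀ hU₀).z 0 = aug (colimit (S₀.diag cT hU₀).G) :=
  (Tower.Hom.exists_of (T' := tw (colimit (S₀.diag cT hU₀).G)) (limTower_isExact S₀ hU₀)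
    (aug (colimit (S₀.diag cT hU₀).G))).choose_spec

/-- classes of cycles -/
def picHom : SysHom (pushedSys gN (zSys S₀ hU₀ q).1) (rpushSys gN q S₀) where
  app i := picT (gN.app (op i)) (stageCompare S₀ hU₀ i) q
  comm i j h := by
    refine picT_bcL (stage_w gN h) q (stageTower_isExact S₀ hU₀ i) _ _ (stageTrans S₀ hU₀ h) (S₀.l h) ?_
    rw [stageCompare_zero, stageCompare_zero]
    exact aug_compat (EtCoh.push (tr Ts h)) (S₀.l h) (aug (S₀.F i)) (aug (S₀.F j))

theorem picHom_target (i : ι) :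
    (picHom gN q S₀ hU₀).app i ≫ (rpushTarget gN q hg (S₀.diag cT hU₀).target).g i =
      (pushedTarget gN hg ((zSys S₀ hU₀ q).1.diag cT (zSys S₀ hU₀ q).2).target).g i ≫
        (EtCoh.push (pr cS i)).map (picT g (limCompare cT S₀ hU₀) q) := by
  refine picT_bcL (hg i) q (stageTower_isExact S₀ hU₀ i) _ _ (limTrans S₀ hU₀ i) _ ?_
  rw [stageCompare_zero, limCompare_zero]
  exact @aug_compat _ _ _ _ (EtCoh.push (pr cT i)) _ _ _ _ ((S₀.diag cT hU₀).target.g i) (aug (S₀.F i))
    (isIso_aug _) (aug (colimit (S₀.diag cT hU₀).G)) (isIso_aug _)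

variable (hqc : ∀ a, QuasiCompact (gN.app a)) (hqs : ∀ a, QuasiSeparated (gN.app a))
  [hAS : ∀ {a b : ιᵒᵖ} (h : a ⟶ b), IsAffineHom (Ss.map h)] (hcT : IsLimit cT) (hcS : IsLimit cS)

include hcT hcS hqc hqs hg

theorem isAcycX_limTower : IsAcycX (EtCoh.push g) (limTower cT S₀ hU₀) := fun n m =>
  isZero_Rpush_of_isLimAcyclic gN hg hqc hqs hcT hcS _
    (isLimAcyclic_of_injective_sys (T := ((jSys S₀ hU₀ n).diag cT (jSys_isUnital S₀ hU₀ n)).target)
      (jSys_isUnital S₀ hU₀ n) hcT (Diag.isColim _) (fun i => injective_coind _ i)) m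

theorem isCol_pushed {S : Sys Ts} (hU : S.IsUnital) : IsCol (pushedTarget gN hg (S.diag cT hU).target) :=
  isCol_of_isColim (pushedSys_isUnital gN S hU)
    (pushedTarget_isColim gN hg hqc hqs hcT hcS _ (Diag.isColim _))

/-- higher direct images commute with colimits of systems -/
theorem isCol_rpushTarget : IsCol (rpushTarget gN q hg (S₀.diag cT hU₀).target) := by
  have hμ : IsIso ((limCompare cT S₀ hU₀).z 0) := by rw [limCompare_zero]; exact isIso_aug _
  have hμi : ∀ i, IsIso ((stageCompare S₀ hU₀ i).z 0) := fun i => by rw [stageCompare_zero]; exact isIso_aug _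
  haveI hepi : ∀ i, Epi ((picHom gN q S₀ hU₀).app i) := fun i =>
    epi_map_z_pic (EtCoh.push (gN.app (op i))) (stageTower_isExact S₀ hU₀ i) (isAcycX_of_injective _ _) _ q
  haveI hepi' : Epi (picT g (limCompare cT S₀ hU₀) q) :=
    epi_map_z_pic (EtCoh.push g) (limTower_isExact S₀ hU₀) (isAcycX_limTower gN hg S₀ hU₀ hqc hqs hcT hcS) _ q
  have hP := fun n => isCol_pushed gN hg hqc hqs hcT hcS (zSys S₀ hU₀ n).2
  constructor
  · intro T'
    obtain ⟨η₀, hη₀⟩ := (hP q).desc (comapTarget (picHom gN q S₀ hU₀) T')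
    have hfin : ∀ η : (EtCoh.Rpush g q).obj (colimit (S₀.diag cT hU₀).G) ⟶ T'.G,
        picT g (limCompare cT S₀ hU₀) q ≫ η = η₀ →
        ∀ i, (rpushTarget gN q hg (S₀.diag cT hU₀).target).g i ≫ (EtCoh.push (pr cS i)).map η = T'.g i := by
      intro η hη i
      rw [← cancel_epi ((picHom gN q S₀ hU₀).app i), ← Category.assoc, picHom_target gN q hg S₀ hU₀ i,
        Category.assoc]
      erw [← Functor.map_comp, hη, hη₀ i]
      rfl
    cases q with
    | zero =>
      haveI : IsIso (picT g (limCompare cT S₀ hU₀) 0) := by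
        haveI := isIso_pic_zero (EtCoh.push g) (colimit (S₀.diag cT hU₀).G)
        exact inferInstanceAs (IsIso (_ ≫ _))
      exact ⟨inv (picT g (limCompare cT S₀ hU₀) 0) ≫ η₀, hfin _ (IsIso.hom_inv_id_assoc _ _)⟩
    | succ j =>
      have hk : (EtCoh.push g).map ((limTower cT S₀ hU₀).p j) ≫ η₀ = 0 := by
        refine (isCol_pushed gN hg hqc hqs hcT hcS (jSys_isUnital S₀ hU₀ j)).ext _ 0 fun i => ?_
        rw [Functor.map_zero, comp_zero, Functor.map_comp, ← Category.assoc]
        have e := pushL_natural (hg i) ((jOut S₀ hU₀ j).app i) ((limTower cT S₀ hU₀).p j) _ _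
          (target_g_colimMap (cT := cT) (jOut S₀ hU₀ j) _ (zSys S₀ hU₀ (j + 1)).2 i)
        refine (congrArg (· ≫ _) e.symm).trans ((Category.assoc _ _ _).trans ?_)
        refine (congrArg (_ ≫ ·) (hη₀ i)).trans ?_
        change _ ≫ picT _ _ _ ≫ T'.g i = 0
        refine (congrArg (_ ≫ ·) (Category.assoc _ _ _)).trans ?_
        have e0 := (map_p_pic_of_hom (EtCoh.push (gN.app (op i))) (stageCompare S₀ hU₀ i) j)
        refine Eq.trans ?_ (zero_comp (f := T'.g i))
        refine Eq.trans ?_ (congrArg (· ≫ T'.g i) e0)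
        simp only [Category.assoc]
        rfl
      obtain ⟨η, hη⟩ := desc_map_z_pic (EtCoh.push g) (limTower_isExact S₀ hU₀)
        (isAcycX_limTower gN hg S₀ hU₀ hqc hqs hcT hcS) (limCompare cT S₀ hU₀) j η₀ hk
      exact ⟨η, hfin η hη⟩
  · intro Z η η' h
    rw [← cancel_epi (picT g (limCompare cT S₀ hU₀) q)]
    refine (hP q).ext (picT g (limCompare cT S₀ hU₀) q ≫ η) (picT g (limCompare cT S₀ hU₀) q ≫ η') fun i => ?_
    rw [Functor.map_comp, Functor.map_comp, ← Category.assoc, ← Category.assoc]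
    erw [← picHom_target gN q hg S₀ hU₀ i]
    rw [Category.assoc, Category.assoc, h i]

end towers

end Groth.Agent.BcLim5
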