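import Groth.Agent.BcLim5.PushMor
import Groth.Agent.BcLim5.Crit

/-!
# Continuity of direct images in degree zero, and acyclicity for direct images on the limit
-/

set_option autoImplicit false
set_option linter.style.haveILetI false
set_option linter.unusedSectionVars false
set_option linter.unusedVariables false
set_option backward.isDefEq.respectTransparency.types false

universe u

open CategoryTheory CategoryTheory.Limits AlgebraicGeometry Opposite

noncomputable section

namespace Groth.Agent.BcLim5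

open EtLim8 EtFound

variable {ι : Type u} [Preorder ι] [IsDirected ι (· ≤ ·)] [Nonempty ι] {Ts Ss : ιᵒᵖ ⥤ Scheme.{u}} (gN : Ts ⟶ Ss)
  {cT : Cone Ts} {cS : Cone Ss} {g : cT.pt ⟶ cS.pt} (hg : ∀ i, pr cT i ≫ gN.app (op i) = g ≫ pr cS i)
  (hqc : ∀ a, QuasiCompact (gN.app a)) (hqs : ∀ a, QuasiSeparated (gN.app a))
  [hAT : ∀ {a b : ιᵒᵖ} (h : a ⟶ b), IsAffineHom (Ts.map h)]
  [hAS : ∀ {a b : ιᵒᵖ} (h : a ⟶ b), IsAffineHom (Ss.map h)] (hcT : IsLimit cT) (hcS : IsLimit cS)

include hcT hcS hqc hqs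

/-- direct images commute with colimits of systems -/
theorem pushedTarget_isColim {S : Sys Ts} (T : Target S cT) (hT : T.IsColim) :
    (pushedTarget gN hg T).IsColim := by
  refine lim_isColim_of_isCont hcS _ ⟨fun j V hV σ => ?_, fun j V hV s hs => ?_⟩
  · exact pushedTarget_surj gN hg hqc hqs hcT T hT j V hV σ
  · exact pushedTarget_inj gN hg hqc hqs hcT T hT j V hV s hs

include hg in
theorem epi_push_map_of_isLimAcyclic (S : ShortComplex (EtCoh.Ab cT.pt)) (hS : S.ShortExact)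
    (h1 : IsLimAcyclic cT S.X₁) : Epi ((EtCoh.push g).map S.g) := by
  refine (Sheaf.isLocallySurjective_iff_epi' AddCommGrpCat.{u + 1} _).1 ⟨fun {V} s => ?_⟩
  refine (mem_topology_iff _).2 fun v => ?_
  obtain ⟨B, hvB, hB, j, A, a₀, ha₀, hAq⟩ := exists_local_model hcS V v
  haveI : AlgebraicGeometry.Etale V.hom := V.prop
  let W₁ : cS.pt.Etale := Scheme.Etale.mk (B.ι ≫ V.hom)
  let inc : W₁ ⟶ V := MorphismProperty.Over.homMk B.ι rfl trivial
  obtain ⟨a, ha⟩ : ∃ a : W₁.left ⟶ A.left, IsPullback a W₁.hom A.hom (pr cS j) := ⟨a₀, ha₀⟩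
  let P := (EtCoh.bc (pr cS j)).obj A
  let p : P ⟶ W₁ := MorphismProperty.Over.homMk (ha.lift (bcFst (pr cS j) A) P.hom (bcFst_w _ A))
    (ha.lift_snd _ _ _) trivial
  let q : W₁ ⟶ P := liftBc (pr cS j) a ha.w
  have hqp : (q ≫ p).left = 𝟙 W₁.left := by
    refine ha.hom_ext ?_ ?_
    · refine (Category.assoc _ _ _).trans ((congrArg (_ ≫ ·) (ha.lift_fst _ _ _)).trans ?_)
      exact (liftBc_fst (pr cS j) a ha.w).trans (Category.id_comp _).symm
    · exact (MorphismProperty.Over.w (q ≫ p)).trans (Category.id_comp _).symm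
  let e := sqIso gN hg j A
  let z := (((EtCoh.push g).obj S.X₃).obj.map (p ≫ inc).op).hom s
  obtain ⟨t, ht⟩ := lim_sections_surjective hcT S hS h1 ((EtCoh.bc (gN.app (op j))).obj A)
    (isQcqsObj_bc_stage gN hqc hqs A hAq) (S.X₃.obj.map e.inv.op z)
  refine ⟨P, p ≫ inc, q.left.base ⟨v, hvB⟩, ⟨S.X₂.obj.map e.hom.op t, ?_⟩, ?_⟩
  · refine (NatTrans.naturality_apply S.g.hom e.hom.op t).trans ?_
    rw [ht]
    refine (Functor.map_comp_apply _ _ _ _).symm.trans ?_
    rw [← op_comp, Iso.hom_inv_id, op_id, CategoryTheory.Functor.map_id]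
    rfl
  · change (q.left ≫ (p ≫ inc).left).base ⟨v, hvB⟩ = v
    have e' : q.left ≫ (p ≫ inc).left = inc.left := by
      refine (Category.assoc _ _ _).symm.trans ?_
      exact (congrArg (· ≫ inc.left) hqp).trans (Category.id_comp _)
    rw [e']
    rfl

include hg in
theorem isZero_Rpush_of_isLimAcyclic (G : EtCoh.Ab cT.pt) (hG : IsLimAcyclic cT G) (q : ℕ) :
    IsZero ((EtCoh.Rpush g (q + 1)).obj G) := by
  haveI : (EtCoh.push g).IsRightAdjoint := (EtCoh.pullPushAdj g).isRightAdjoint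
  exact SitePullUnit.isZero_rightDerived_of_class (EtCoh.push g) (IsLimAcyclic cT)
    (fun S hS h1 hI => lim_isLimAcyclic_X₃ hcT S hS h1 (haveI := hI; isLimAcyclic_of_injective S.X₂))
    (fun S hS h1 _ => epi_push_map_of_isLimAcyclic gN hg hqc hqs hcT hcS S hS h1) hG q

end Groth.Agent.BcLim5
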