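import Groth.Agent.BcLim5.Col

/-!
# Inverse images of systems along a morphism of inverse systems
-/

set_option autoImplicit false
set_option linter.style.haveILetI false
set_option linter.unusedSectionVars false
set_option linter.unusedVariables false
set_option backward.isDefEq.respectTransparency false
set_option backward.isDefEq.respectTransparency.types false

universe u

open CategoryTheory CategoryTheory.Limits AlgebraicGeometry Opposite

attribute [-instance] CategoryTheory.catToReflQuiver

noncomputable section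

namespace Groth.Agent.BcLim5

open EtLim8

variable {ι : Type u} [Preorder ι] {Xs Ss : ιᵒᵖ ⥤ Scheme.{u}} (fN : Xs ⟶ Ss) (E : Sys Ss)

theorem pulled_w {i j : ι} (h : i ≤ j) :
    fN.app (op j) ≫ tr Ss h = tr Xs h ≫ fN.app (op i) := (fN.naturality _).symm

/-- the unit of the inverse image at a stage -/
abbrev uP (i : ι) : E.F i ⟶ (EtCoh.push (fN.app (op i))).obj ((EtCoh.pull (fN.app (op i))).obj (E.F i)) :=
  (EtCoh.pullPushAdj (fN.app (op i))).unit.app (E.F i)

/-- transition followed by the unit -/
def gamP {i j : ι} (h : i ≤ j) :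
    E.F i ⟶ (EtCoh.push (tr Xs h ≫ fN.app (op i))).obj ((EtCoh.pull (fN.app (op j))).obj (E.F j)) :=
  compL (pulled_w fN h) (E.l h) (uP fN E j)

/-- the transition maps of the inverse image system -/
def pulledL {i j : ι} (h : i ≤ j) :
    (EtCoh.pull (fN.app (op i))).obj (E.F i) ⟶ (EtCoh.push (tr Xs h)).obj ((EtCoh.pull (fN.app (op j))).obj (E.F j)) :=
  liftL (t₁ := fN.app (op i)) (t₂ := tr Xs h) rfl (gamP fN E h)

theorem compat_pulledL {i j : ι} (h : i ≤ j) : Compat (uP fN E i) (pulledL fN E h) (gamP fN E h) :=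
  compat_liftL rfl _

theorem compat_gamP {i j : ι} (h : i ≤ j) : Compat (E.l h) (uP fN E j) (gamP fN E h) :=
  compat_compL (pulled_w fN h) _ _

/-- the inverse images of a system -/
def pulledSys : Sys Xs where
  F i := (EtCoh.pull (fN.app (op i))).obj (E.F i)
  l := fun i j h => pulledL fN E h
  comp := fun i j k hij hjk => by
    have w1 : tr Ss hjk ≫ tr Ss hij = tr Ss (hij.trans hjk) := tr_comp Ss hij hjk
    have w2 : (tr Xs hjk ≫ fN.app (op j)) ≫ tr Ss hij = tr Xs (hij.trans hjk) ≫ fN.app (op i) := by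
      rw [Category.assoc, pulled_w fN hij, ← Category.assoc, tr_comp]
    have h1 : Compat (E.l hij) (gamP fN E hjk) (gamP fN E (hij.trans hjk)) :=
      (Compat.assoc_iff w1 (pulled_w fN hjk) w2 (pulled_w fN (hij.trans hjk)) (E.comp hij hjk)
        (compat_gamP fN E hjk)).1 (compat_gamP fN E (hij.trans hjk))
    have w3 : tr Xs hjk ≫ tr Xs hij ≫ fN.app (op i) = tr Xs (hij.trans hjk) ≫ fN.app (op i) := by
      rw [← Category.assoc, tr_comp]
    have hn : Compat (gamP fN E hij) (pulledL fN E hjk) (gamP fN E (hij.trans hjk)) :=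
      (Compat.assoc_iff (pulled_w fN hij) rfl w2 w3 (compat_gamP fN E hij) (compat_pulledL fN E hjk)).2 h1
    exact compat_of_generated rfl (tr_comp Xs hij hjk) rfl w3 (gamP fN E hij) (gamP fN E (hij.trans hjk))
      _ _ _ (compat_pulledL fN E hij) hn (compat_pulledL fN E (hij.trans hjk))

theorem res_pushId (i : ι) (F : EtCoh.Ab (Ss.obj (op i))) {V W : (Ss.obj (op i)).Etale} (g : W ⟶ V)
    (w : g.left ≫ V.hom = W.hom ≫ tr Ss (le_refl i)) (s : F.obj.obj (op V)) :
    res _ (pushId i F) g.left w s = F.obj.map g.op s := by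
  change F.obj.map (liftBc _ g.left w).op (F.obj.map _ s) = _
  refine (Functor.map_comp_apply _ _ _ _).symm.trans ?_
  exact congrArg (fun r : W ⟶ V => (F.obj.map r.op).hom s) (MorphismProperty.Over.Hom.ext (liftBc_fst _ _ _))

theorem pulledSys_isUnital (hU : E.IsUnital) : (pulledSys fN E).IsUnital := by
  rw [isUnital_iff]
  intro i
  refine Compat.unique_unit (compat_pulledL fN E (le_refl i)) ?_ rfl
  intro V W W' a w b w' e we hbe s
  let g : W' ⟶ W := MorphismProperty.Over.homMk b
    (w'.trans ((congrArg (_ ≫ ·) (tr_refl Xs i)).trans (Category.comp_id _))) trivial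
  refine (res_pushId (Ss := Xs) i _ g w' _).trans ?_
  have we' : e ≫ V.hom = W'.hom ≫ fN.app (op i) :=
    we.trans (congrArg (W'.hom ≫ ·) ((congrArg (· ≫ fN.app (op i)) (tr_refl Xs i)).trans (Category.id_comp _)))
  refine (res_map_right (uP fN E i) a w g e hbe we' s).trans ?_
  have w1 : (𝟙 V : V ⟶ V).left ≫ V.hom = V.hom ≫ tr Ss (le_refl i) :=
    (Category.id_comp _).trans ((Category.comp_id _).symm.trans (congrArg (V.hom ≫ ·) (tr_refl Ss i).symm))
  refine Eq.trans ?_ (compat_gamP fN E (le_refl i) V V W' (𝟙 V : V ⟶ V).left w1 e we' e we (Category.comp_id e) s)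
  rw [hU i V V (𝟙 V) w1, op_id, CategoryTheory.Functor.map_id]
  rfl

variable {cX : Cone Xs} {cS : Cone Ss} {f : cX.pt ⟶ cS.pt} (hf : ∀ i, pr cX i ≫ fN.app (op i) = f ≫ pr cS i)
  {E}

/-- the composite to the limit -/
def gamT (T : Target E cS) (i : ι) :
    E.F i ⟶ (EtCoh.push (f ≫ pr cS i)).obj ((EtCoh.pull f).obj T.G) :=
  compL rfl (T.g i) ((EtCoh.pullPushAdj f).unit.app T.G)

theorem compat_gamT (T : Target E cS) (i : ι) :
    Compat (T.g i) ((EtCoh.pullPushAdj f).unit.app T.G) (gamT (f := f) T i) := compat_compL rfl _ _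

/-- the inverse image of a target -/
def pulledTarget (T : Target E cS) : Target (pulledSys fN E) cX where
  G := (EtCoh.pull f).obj T.G
  g i := liftL (hf i) (gamT (f := f) T i)
  comp i j h := by
    have w2 : (f ≫ pr cS j) ≫ tr Ss h = f ≫ pr cS i := by rw [Category.assoc, pr_tr]
    have h1 : Compat (E.l h) (gamT (f := f) T j) (gamT (f := f) T i) :=
      (Compat.assoc_iff (pr_tr cS h) rfl w2 rfl (T.comp h) (compat_gamT T j)).1 (compat_gamT T i)
    have w3 : pr cX j ≫ tr Xs h ≫ fN.app (op i) = f ≫ pr cS i := by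
      rw [← Category.assoc, pr_tr, hf]
    have hn : Compat (gamP fN E h) (liftL (hf j) (gamT (f := f) T j)) (gamT (f := f) T i) :=
      (Compat.assoc_iff (pulled_w fN h) (hf j) w2 w3 (compat_gamP fN E h) (compat_liftL (hf j) _)).2 h1
    exact compat_of_generated rfl (pr_tr cX h) (hf i) w3 (gamP fN E h) (gamT (f := f) T i)
      _ _ _ (compat_pulledL fN E h) hn (compat_liftL (hf i) _)

theorem compat_pulledTarget (T : Target E cS) (i : ι) :
    Compat (uP fN E i) ((pulledTarget fN hf T).g i) (gamT (f := f) T i) := compat_liftL (hf i) _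

/-- a target of the inverse images gives a target of the system -/
def gamU (T' : Target (pulledSys fN E) cX) (i : ι) : E.F i ⟶ (EtCoh.push (f ≫ pr cS i)).obj T'.G :=
  compL (hf i) (uP fN E i) (T'.g i)

/-- a target of the inverse images gives a target of the system -/
def pushTargetOf (T' : Target (pulledSys fN E) cX) : Target E cS where
  G := (EtCoh.push f).obj T'.G
  g i := coliftL (t₁ := pr cS i) (t₂ := f) rfl (gamU fN hf T' i)
  comp i j h := by
    have w2 : (f ≫ pr cS j) ≫ tr Ss h = f ≫ pr cS i := by rw [Category.assoc, pr_tr]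
    have w3 : pr cX j ≫ tr Xs h ≫ fN.app (op i) = f ≫ pr cS i := by
      rw [← Category.assoc, pr_tr, hf]
    have h1 : Compat (gamP fN E h) (T'.g j) (gamU fN hf T' i) :=
      (Compat.assoc_iff rfl (pr_tr cX h) (hf i) w3 (compat_pulledL fN E h) (T'.comp h)).2 (compat_compL (hf i) _ _)
    have h2 : Compat (E.l h) (gamU fN hf T' j) (gamU fN hf T' i) :=
      (Compat.assoc_iff (pulled_w fN h) (hf j) w2 w3 (compat_gamP fN E h) (compat_compL (hf j) _ _)).1 h1
    have hg := compat_coliftL (t₁ := pr cS j) (t₂ := f) rfl (gamU fN hf T' j)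
    have hx : Compat (compL (pr_tr cS h) (E.l h) (coliftL (t₁ := pr cS j) (t₂ := f) rfl (gamU fN hf T' j))) (𝟙 _)
        (gamU fN hf T' i) :=
      (Compat.assoc_iff (pr_tr cS h) rfl w2 rfl (compat_compL (pr_tr cS h) _ _) hg).2 h2
    have e := Compat.unique_left hx (compat_coliftL (t₁ := pr cS i) (t₂ := f) rfl (gamU fN hf T' i)) rfl
    rw [← e]
    exact compat_compL _ _ _

/-- inverse images of universal targets are universal -/
theorem isCol_pulledTarget {T : Target E cS} (hT : IsCol T) : IsCol (pulledTarget fN hf T) where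
  desc T' := by
    obtain ⟨η', hη'⟩ := hT.desc (pushTargetOf fN hf T')
    refine ⟨((EtCoh.pullPushAdj f).homEquiv _ _).symm η', fun i => ?_⟩
    let η := ((EtCoh.pullPushAdj f).homEquiv _ _).symm η'
    have e : (EtCoh.pullPushAdj f).unit.app T.G ≫ (EtCoh.push f).map η = η' :=
      ((EtCoh.pullPushAdj f).homEquiv_unit _ _ η).symm.trans (Equiv.apply_symm_apply _ _)
    have h1 : Compat (T.g i) η' (gamT (f := f) T i ≫ (EtCoh.push (f ≫ pr cS i)).map η) :=
      e ▸ Compat.push_map (compat_gamT T i) η
    have h2 : Compat (T.g i) η' (gamU fN hf T' i) := by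
      rw [← Category.comp_id η', ← compat_map_left_iff, hη' i]
      exact compat_coliftL rfl _
    have h3 := Compat.unique (t₁ := pr cS i) (t₂ := f) rfl h1 h2
    refine Compat.unique_unit (Compat.push_map (compat_pulledTarget fN hf T i) η) ?_ (hf i)
    rw [h3]
    exact compat_compL _ _ _
  ext {Z} η η' h := by
    apply ((EtCoh.pullPushAdj f).homEquiv _ _).injective
    refine hT.ext _ _ fun i => ?_
    have key : ∀ η : (EtCoh.pull f).obj T.G ⟶ Z, Compat (T.g i ≫ (EtCoh.push (pr cS i)).map
        ((EtCoh.pullPushAdj f).homEquiv _ _ η)) (𝟙 _) (gamT (f := f) T i ≫ (EtCoh.push (f ≫ pr cS i)).map η) := by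
      intro η
      rw [compat_map_left_iff, Category.comp_id, Adjunction.homEquiv_unit]
      exact Compat.push_map (compat_gamT T i) η
    refine Compat.unique_left (key η) ?_ rfl
    have e : gamT (f := f) T i ≫ (EtCoh.push (f ≫ pr cS i)).map η =
        gamT (f := f) T i ≫ (EtCoh.push (f ≫ pr cS i)).map η' := by
      have h1 := Compat.push_map (compat_pulledTarget fN hf T i) η
      have h2 := Compat.push_map (compat_pulledTarget fN hf T i) η'
      rw [show (pulledTarget fN hf T).g i ≫ (EtCoh.push (pr cX i)).map η = _ from h i] at h1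
      rw [compat_iff (hf i)] at h1 h2
      exact (cancel_mono _).1 (h1.symm.trans h2)
    rw [e]
    exact key η'

end Groth.Agent.BcLim5
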