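import Groth.Agent.BcLim5.Cont
import Groth.Agent.BcLim5.Pulled
import Groth.Agent.EtLim8.Unitalize

/-!
# Base change isomorphisms pass to limits
-/

set_option autoImplicit false
set_option linter.style.haveILetI false
set_option linter.unusedSectionVars false
set_option linter.unusedVariables false
set_option backward.isDefEq.respectTransparency false
set_option backward.isDefEq.respectTransparency.types false

universe u

open CategoryTheory CategoryTheory.Limits AlgebraicGeometry Opposite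

attribute [-instance] CategoryTheory.catToReflQuiver

noncomputable section

namespace Groth.Agent.BcLim5

open EtLim8 BcQCalc

attribute [local instance] preservesFiniteLimits_pull

section square

variable {X S X' S' : Scheme.{u}} {f : X ⟶ S} {g : S' ⟶ S} {f' : X' ⟶ S'} {g' : X' ⟶ X}
  (w : g' ≫ f = f' ≫ g) [hl : PreservesFiniteLimits (EtCoh.pull g')] (F : EtCoh.Ab X) (q : ℕ)

theorem bcL_unit :
    bcL w q ((EtCoh.pullPushAdj g').unit.app F) =
      (EtCoh.pullPushAdj g).unit.app ((EtCoh.Rpush f q).obj F) ≫ (EtCoh.push g).map (EtBC.bcQ f g f' g' w q F) := by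
  have e : ((EtCoh.pullPushAdj g').homEquiv _ _).symm ((EtCoh.pullPushAdj g').unit.app F) = 𝟙 _ := by
    rw [Equiv.symm_apply_eq]
    exact ((EtCoh.pullPushAdj g').homEquiv_id F).symm
  rw [bcL, e, CategoryTheory.Functor.map_id, Category.comp_id]
  exact Adjunction.homEquiv_unit _ _ _ _

/-- the base change morphism is invariant under isomorphisms -/
theorem isIso_bcQ_of_iso {G : EtCoh.Ab X} (e : F ≅ G) (h : IsIso (EtBC.bcQ f g f' g' w q G)) :
    IsIso (EtBC.bcQ f g f' g' w q F) := by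
  have e1 := bcQ_naturality f g f' g' w e.hom q
  have e2 : EtBC.bcQ f g f' g' w q F =
      ((EtCoh.pull g).map ((EtCoh.Rpush f q).map e.hom) ≫ EtBC.bcQ f g f' g' w q G) ≫
        (EtCoh.Rpush f' q).map ((EtCoh.pull g').map e.inv) := by
    rw [e1, Category.assoc, ← Functor.map_comp, ← Functor.map_comp, e.hom_inv_id, CategoryTheory.Functor.map_id,
      CategoryTheory.Functor.map_id, Category.comp_id]
  rw [e2]
  infer_instance

/-- the base change morphism of a retract -/
theorem isIso_bcQ_of_retract {G : EtCoh.Ab X} (r : F ⟶ G) (s : G ⟶ F) (hrs : r ≫ s = 𝟙 F)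
    (h : IsIso (EtBC.bcQ f g f' g' w q G)) : IsIso (EtBC.bcQ f g f' g' w q F) := by
  refine ⟨(EtCoh.Rpush f' q).map ((EtCoh.pull g').map r) ≫ inv (EtBC.bcQ f g f' g' w q G) ≫
    (EtCoh.pull g).map ((EtCoh.Rpush f q).map s), ?_, ?_⟩
  · rw [← reassoc_of% (bcQ_naturality f g f' g' w r q), IsIso.hom_inv_id_assoc, ← Functor.map_comp,
      ← Functor.map_comp, hrs, CategoryTheory.Functor.map_id, CategoryTheory.Functor.map_id]
  · rw [Category.assoc, Category.assoc, bcQ_naturality f g f' g' w s q, IsIso.inv_hom_id_assoc,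
      ← Functor.map_comp, ← Functor.map_comp, hrs, CategoryTheory.Functor.map_id, CategoryTheory.Functor.map_id]

end square

variable {ι : Type u} [Preorder ι] [IsDirected ι (· ≤ ·)] [Nonempty ι] {Xs Ss Ts Ys : ιᵒᵖ ⥤ Scheme.{u}}
  (fN : Xs ⟶ Ss) (gN : Ts ⟶ Ss) (hN : Ys ⟶ Xs) (eN : Ys ⟶ Ts)
  (sq : ∀ i : ι, eN.app (op i) ≫ gN.app (op i) = hN.app (op i) ≫ fN.app (op i))
  (q : ℕ) (S : Sys Ts)

theorem cube_w {i j : ι} (hij : i ≤ j) (hsq : eN.app (op i) ≫ gN.app (op i) = hN.app (op i) ≫ fN.app (op i)) :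
    (tr Ys hij ≫ eN.app (op i)) ≫ gN.app (op i) = hN.app (op j) ≫ tr Xs hij ≫ fN.app (op i) := by
  rw [Category.assoc, hsq, ← Category.assoc, ← Category.assoc, stage_w hN hij]

/-- the base change morphisms at the stages -/
def bcHom : SysHom (pulledSys fN (rpushSys gN q S)) (rpushSys hN q (pulledSys eN S)) where
  app i := EtBC.bcQ (gN.app (op i)) (fN.app (op i)) (hN.app (op i)) (eN.app (op i)) (sq i) q (S.F i)
  comm i j hij := by
    have w'' := cube_w fN gN hN eN hij (sq i)
    let γ := bcL w'' q (gamP eN S hij)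
    refine Compat.unique_unit (t₁ := fN.app (op i)) (t₂ := tr Xs hij) (γ := γ) ?_ ?_ rfl
    · rw [← compat_map_left_iff]
      change Compat ((EtCoh.pullPushAdj (fN.app (op i))).unit.app _ ≫ _) _ _
      have c1 : Compat (bcL (sq i) q (uP eN S i)) ((rpushSys hN q (pulledSys eN S)).l hij) γ :=
        compat_bcL (sq i) q (stage_w hN hij) rfl rfl w'' (compat_pulledL eN S hij)
      rw [show uP eN S i = (EtCoh.pullPushAdj (eN.app (op i))).unit.app (S.F i) from rfl,
        bcL_unit (sq i) (S.F i) q] at c1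
      exact c1
    · have h1 := Compat.push_map (compat_pulledL fN (rpushSys gN q S) hij)
        (EtBC.bcQ (gN.app (op j)) (fN.app (op j)) (hN.app (op j)) (eN.app (op j)) (sq j) q (S.F j))
      have h2 : Compat ((rpushSys gN q S).l hij) (bcL (sq j) q (uP eN S j)) γ :=
        compat_bcL (stage_w gN hij) q (sq j) (pulled_w fN hij) (pulled_w eN hij) w'' (compat_gamP eN S hij)
      have h3 := Compat.push_map (compat_gamP fN (rpushSys gN q S) hij)
        (EtBC.bcQ (gN.app (op j)) (fN.app (op j)) (hN.app (op j)) (eN.app (op j)) (sq j) q (S.F j))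
      have e := bcL_unit (sq j) (S.F j) q
      rw [show uP eN S j = (EtCoh.pullPushAdj (eN.app (op j))).unit.app (S.F j) from rfl, e] at h2
      have e2 := Compat.unique (t₁ := tr Ss hij) (t₂ := fN.app (op j)) (pulled_w fN hij) h2 h3
      rw [e2]
      exact h1

variable {cX : Cone Xs} {cS : Cone Ss} {cT : Cone Ts} {cY : Cone Ys}
  {f : cX.pt ⟶ cS.pt} {g : cT.pt ⟶ cS.pt} {h : cY.pt ⟶ cX.pt} {e : cY.pt ⟶ cT.pt}
  (hf : ∀ i, pr cX i ≫ fN.app (op i) = f ≫ pr cS i) (hg : ∀ i, pr cT i ≫ gN.app (op i) = g ≫ pr cS i)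
  (hh : ∀ i, pr cY i ≫ hN.app (op i) = h ≫ pr cX i) (he : ∀ i, pr cY i ≫ eN.app (op i) = e ≫ pr cT i)
  (w : e ≫ g = h ≫ f)
  (hqc : ∀ a, QuasiCompact (gN.app a)) (hqs : ∀ a, QuasiSeparated (gN.app a))
  (hqc' : ∀ a, QuasiCompact (hN.app a)) (hqs' : ∀ a, QuasiSeparated (hN.app a))
  [hAT : ∀ {a b : ιᵒᵖ} (h : a ⟶ b), IsAffineHom (Ts.map h)]
  [hAS : ∀ {a b : ιᵒᵖ} (h : a ⟶ b), IsAffineHom (Ss.map h)]
  [hAX : ∀ {a b : ιᵒᵖ} (h : a ⟶ b), IsAffineHom (Xs.map h)]
  [hAY : ∀ {a b : ιᵒᵖ} (h : a ⟶ b), IsAffineHom (Ys.map h)]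
  (hcX : IsLimit cX) (hcS : IsLimit cS) (hcT : IsLimit cT) (hcY : IsLimit cY) (hU : S.IsUnital)

include hf hg hh he w hqc hqs hqc' hqs' hcX hcS hcT hcY

/-- base change morphisms which are isomorphisms at all stages are isomorphisms at the limit -/
theorem isIso_bcQ_limit [hl : PreservesFiniteLimits (EtCoh.pull e)]
    (hstage : ∀ i, IsIso (EtBC.bcQ (gN.app (op i)) (fN.app (op i)) (hN.app (op i)) (eN.app (op i))
      (sq i) q (S.F i))) :
    IsIso (EtBC.bcQ g f h e w q (colimit (S.diag cT hU).G)) := by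
  let T₀ := (S.diag cT hU).target
  let S' := pulledSys eN S
  have hU' : S'.IsUnital := pulledSys_isUnital eN S hU
  let T' : Target S' cY := pulledTarget eN he T₀
  have hT' : IsCol T' := isCol_pulledTarget eN he (isCol_diag hU)
  let δ := descTarget (c := cY) hU' T'
  haveI : IsIso δ := isIso_of_isCol (isCol_diag hU') hT' δ (target_g_descTarget hU' T')
  have hB : IsCol (rpushTarget hN q hh T') := by
    haveI : IsIso ((EtCoh.Rpush h q).map δ) := inferInstance
    have h0 := isCol_mapTarget (isCol_rpushTarget hN q hh S' hU' hqc' hqs' hcY hcX) ((EtCoh.Rpush h q).map δ)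
    have e0 : mapTarget (rpushTarget hN q hh (S'.diag cY hU').target) ((EtCoh.Rpush h q).map δ) =
        rpushTarget hN q hh T' := by
      simp only [mapTarget, rpushTarget]
      congr 1
      funext i
      have e1 := bcL_natural (hh i) q (𝟙 (S'.F i)) δ ((S'.diag cY hU').target.g i) (T'.g i)
        ((Category.id_comp _).trans (target_g_descTarget hU' T' i).symm)
      rw [CategoryTheory.Functor.map_id, Category.id_comp] at e1
      exact e1.symm
    rwa [e0] at h0
  have hA : IsCol (pulledTarget fN hf (rpushTarget gN q hg T₀)) :=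
    isCol_pulledTarget fN hf (isCol_rpushTarget gN q hg S hU hqc hqs hcT hcS)
  let θ := bcHom fN gN hN eN sq q S
  haveI : ∀ i, IsIso (θ.app i) := hstage
  refine isIso_of_isCol hA (isCol_comapTarget θ hB) (EtBC.bcQ g f h e w q (colimit (S.diag cT hU).G)) fun i => ?_
  change _ = θ.app i ≫ (rpushTarget hN q hh T').g i
  have w'' : (e ≫ pr cT i) ≫ gN.app (op i) = h ≫ f ≫ pr cS i := by
    rw [Category.assoc, hg, ← Category.assoc, w, Category.assoc]
  let γ := bcL w'' q (gamT (f := e) T₀ i)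
  refine Compat.unique_unit (t₁ := fN.app (op i)) (t₂ := pr cX i) (γ := γ) ?_ ?_ (hf i)
  · have h1 := Compat.push_map (compat_pulledTarget fN hf (rpushTarget gN q hg T₀) i)
      (EtBC.bcQ g f h e w q (colimit (S.diag cT hU).G))
    have h2 : Compat ((rpushTarget gN q hg T₀).g i) (bcL w q ((EtCoh.pullPushAdj e).unit.app T₀.G)) γ :=
      compat_bcL (hg i) q w rfl rfl w'' (compat_gamT T₀ i)
    have h3 := Compat.push_map (compat_gamT (f := f) (rpushTarget gN q hg T₀) i)
      (EtBC.bcQ g f h e w q (colimit (S.diag cT hU).G))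
    rw [bcL_unit w T₀.G q] at h2
    have e2 := Compat.unique (t₁ := pr cS i) (t₂ := f) rfl h2 h3
    rw [e2]
    exact h1
  · rw [← compat_map_left_iff]
    change Compat ((EtCoh.pullPushAdj (fN.app (op i))).unit.app _ ≫ (EtCoh.push (fN.app (op i))).map
      (EtBC.bcQ (gN.app (op i)) (fN.app (op i)) (hN.app (op i)) (eN.app (op i)) (sq i) q (S.F i))) _ _
    have c1 : Compat (bcL (sq i) q (uP eN S i)) ((rpushTarget hN q hh T').g i) γ :=
      compat_bcL (sq i) q (hh i) (hf i) (he i) w'' (compat_pulledTarget eN he T₀ i)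
    rw [show uP eN S i = (EtCoh.pullPushAdj (eN.app (op i))).unit.app (S.F i) from rfl,
      bcL_unit (sq i) (S.F i) q] at c1
    exact c1

end Groth.Agent.BcLim5
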