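import Groth.Agent.BcLim5.PushL
import Groth.Agent.BcLim5.Acyclic
import Groth.Agent.EtLim8.Theta
import Groth.Agent.EtLim8.AcyclicColim
import Groth.Agent.EtLC12.RpushTorsion

/-!
# Direct images of systems along a morphism of inverse systems
-/

set_option autoImplicit false
set_option linter.style.haveILetI false
set_option linter.unusedSectionVars false
set_option linter.unusedVariables false
set_option backward.isDefEq.respectTransparency.types false

universe u

open CategoryTheory CategoryTheory.Limits AlgebraicGeometry Opposite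

noncomputable section

namespace Groth.Agent.BcLim5

open EtLim8 EtFound

variable {ι : Type u} [Preorder ι] {Ts Ss : ιᵒᵖ ⥤ Scheme.{u}} (gN : Ts ⟶ Ss)

theorem stage_w {i j : ι} (h : i ≤ j) :
    tr Ts h ≫ gN.app (op i) = gN.app (op j) ≫ tr Ss h := gN.naturality _

/-- the direct images of a system -/
def pushedSys (S : Sys Ts) : Sys Ss where
  F i := (EtCoh.push (gN.app (op i))).obj (S.F i)
  l := fun i j h => pushL (stage_w gN h) (S.l h)
  comp := fun i j k hij hjk V W W' a w b w' e we hbe s => by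
    rw [res_pushL (stage_w gN hjk) (S.l hjk) b w' (sqMap (stage_w gN hjk) b w') (sqMap_w _ b w') (sqMap_fst _ b w'),
      res_pushL (stage_w gN hij) (S.l hij) a w (sqMap (stage_w gN hij) a w) (sqMap_w _ a w) (sqMap_fst _ a w),
      res_pushL (stage_w gN (hij.trans hjk)) (S.l (hij.trans hjk)) e we (sqMap (stage_w gN (hij.trans hjk)) e we)
        (sqMap_w _ e we) (sqMap_fst _ e we)]
    refine S.comp hij hjk _ _ _ _ _ _ _ _ _ (bc_hom_ext ?_ ?_) s
    · rw [Category.assoc, sqMap_fst, sqMap_fst, ← Category.assoc, sqMap_fst, Category.assoc, hbe]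
    · rw [Category.assoc, sqMap_w, sqMap_w, ← Category.assoc, sqMap_w, Category.assoc, tr_comp]

theorem pushedSys_isUnital (S : Sys Ts) (hU : S.IsUnital) : (pushedSys gN S).IsUnital := by
  intro i V W m w s
  refine (res_pushL (stage_w gN (le_refl i)) (S.l (le_refl i)) m.left w ((EtCoh.bc (gN.app (op i))).map m).left
    ?_ (EtCoh.isPullback_bc_map (gN.app (op i)) m).w s).trans ?_
  · refine (MorphismProperty.Over.w ((EtCoh.bc (gN.app (op i))).map m)).trans ?_
    exact ((Category.comp_id _).symm.trans (congrArg (_ ≫ ·) (tr_refl Ts i).symm))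
  · exact hU i _ _ ((EtCoh.bc (gN.app (op i))).map m) _ s

/-- morphisms of systems have direct images -/
def pushedHom {S S' : Sys Ts} (η : SysHom S S') : SysHom (pushedSys gN S) (pushedSys gN S') where
  app i := (EtCoh.push (gN.app (op i))).map (η.app i)
  comm i j h := pushL_natural (stage_w gN h) (η.app i) (η.app j) (S.l h) (S'.l h) (η.comm h)

variable {cT : Cone Ts} {cS : Cone Ss} {g : cT.pt ⟶ cS.pt} (hg : ∀ i, pr cT i ≫ gN.app (op i) = g ≫ pr cS i)
  {S : Sys Ts}

/-- the direct image of a target -/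
def pushedTarget (T : Target S cT) : Target (pushedSys gN S) cS where
  G := (EtCoh.push g).obj T.G
  g i := pushL (hg i) (T.g i)
  comp := fun i j h V W W' a w b w' e we hbe s => by
    change res _ (pushL (hg j) (T.g j)) b w' (res _ (pushL (stage_w gN h) (S.l h)) a w s) =
      res _ (pushL (hg i) (T.g i)) e we s
    rw [res_pushL (hg j) (T.g j) b w' (sqMap (hg j) b w') (sqMap_w _ b w') (sqMap_fst _ b w'),
      res_pushL (stage_w gN h) (S.l h) a w (sqMap (stage_w gN h) a w) (sqMap_w _ a w) (sqMap_fst _ a w),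
      res_pushL (hg i) (T.g i) e we (sqMap (hg i) e we) (sqMap_w _ e we) (sqMap_fst _ e we)]
    refine T.comp h _ _ _ _ _ _ _ _ _ (bc_hom_ext ?_ ?_) s
    · rw [Category.assoc, sqMap_fst, sqMap_fst, ← Category.assoc, sqMap_fst, Category.assoc, hbe]
    · rw [Category.assoc, sqMap_w, sqMap_w, ← Category.assoc, sqMap_w, Category.assoc, pr_tr]

variable (hqc : ∀ a, QuasiCompact (gN.app a)) (hqs : ∀ a, QuasiSeparated (gN.app a))

include hqc hqs in
theorem isQcqsObj_bc_stage {i : ι} (V : (Ss.obj (op i)).Etale) (hV : IsQcqsObj V) :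
    IsQcqsObj ((EtCoh.bc (gN.app (op i))).obj V) := by
  haveI := hqc (op i)
  haveI := hqs (op i)
  obtain ⟨h₁, h₂⟩ := hV
  haveI : QuasiCompact (bcFst (gN.app (op i)) V) :=
    inferInstanceAs (QuasiCompact (pullback.fst V.hom (gN.app (op i))))
  haveI : QuasiSeparated (bcFst (gN.app (op i)) V) :=
    inferInstanceAs (QuasiSeparated (pullback.fst V.hom (gN.app (op i))))
  exact ⟨QuasiCompact.compactSpace_of_compactSpace (bcFst (gN.app (op i)) V),
    quasiSeparatedSpace_of_quasiSeparated (bcFst (gN.app (op i)) V)⟩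

/-- `(V ×_{S_i} S) ×_S T ≅ (V ×_{S_i} T_i) ×_{T_i} T` -/
def sqIso (i : ι) (V : (Ss.obj (op i)).Etale) :
    ((EtCoh.bc g).obj ((EtCoh.bc (pr cS i)).obj V)) ≅ (EtCoh.bc (pr cT i)).obj ((EtCoh.bc (gN.app (op i))).obj V) :=
  ((MorphismProperty.Over.pullbackComp (P := EtCoh.etaleMP) (Q := ⊤) g (pr cS i)).symm ≪≫
    (MorphismProperty.Over.pullbackCongr (P := EtCoh.etaleMP) (Q := ⊤) (hg i)).symm ≪≫
      MorphismProperty.Over.pullbackComp (P := EtCoh.etaleMP) (Q := ⊤) (pr cT i) (gN.app (op i))).app V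

theorem sqIso_hom (i : ι) (V : (Ss.obj (op i)).Etale) :
    (sqIso gN hg i V).hom = bcSquare (hg i) V := rfl

variable [IsDirected ι (· ≤ ·)] [Nonempty ι] [hAT : ∀ {a b : ιᵒᵖ} (h : a ⟶ b), IsAffineHom (Ts.map h)]
  [hAS : ∀ {a b : ιᵒᵖ} (h : a ⟶ b), IsAffineHom (Ss.map h)] (hcT : IsLimit cT) (hcS : IsLimit cS)

theorem sqMap_bcFst (i : ι) (V : (Ss.obj (op i)).Etale) :
    sqMap (hg i) (bcFst (pr cS i) V) (bcFst_w _ V) = (sqIso gN hg i V).hom.left ≫
      bcFst (pr cT i) ((EtCoh.bc (gN.app (op i))).obj V) := by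
  rw [sqIso_hom]
  refine bc_hom_ext ((sqMap_fst _ _ _).trans ?_) ((sqMap_w _ _ _).trans ?_)
  · refine Eq.trans ?_ (Category.assoc _ _ _).symm
    exact (bcSquare_fst (hg i) V).symm
  · refine Eq.trans ?_ (Category.assoc _ _ _).symm
    refine Eq.trans ?_ (congrArg (_ ≫ ·) (bcFst_w _ _)).symm
    refine Eq.trans ?_ (Category.assoc _ _ _)
    exact (congrArg (· ≫ pr cT i) (MorphismProperty.Over.w (bcSquare (hg i) V))).symm

include hcT hqc hqs in
/-- the direct image commutes with the colimit, on quasi-compact quasi-separated objects -/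
theorem pushedTarget_surj (T : Target S cT) (hT : T.IsColim) (j : ι) (V : (Ss.obj (op j)).Etale) (hV : IsQcqsObj V)
    (σ : (pushedTarget gN hg T).G.obj.obj (op ((EtCoh.bc (pr cS j)).obj V))) :
    ∃ (k : ι) (h : j ≤ k) (s : ((pushedSys gN S).F k).obj.obj (op ((EtCoh.bc (tr Ss h)).obj V))),
      res (pr cS k) ((pushedTarget gN hg T).g k) (bcMap (tr Ss h) (pr cS k) (pr cS j) (pr_tr cS h) V) (bcMap_w _ V) s
        = σ := by
  let e := sqIso gN hg j V
  let V' := (EtCoh.bc (gN.app (op j))).obj V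
  obtain ⟨k, h, s, hs⟩ := exists_res_eq hT hcT V' (isQcqsObj_bc_stage gN hqc hqs V hV)
    (T.G.obj.map e.inv.op σ)
  let V'' := (EtCoh.bc (gN.app (op k))).obj ((EtCoh.bc (tr Ss h)).obj V)
  have wκ : sqMap (stage_w gN h) (bcFst (tr Ss h) V) (bcFst_w _ V) ≫ V'.hom = V''.hom ≫ tr Ts h := sqMap_w _ _ _
  let κ : V'' ⟶ (EtCoh.bc (tr Ts h)).obj V' := liftBc (tr Ts h) (sqMap (stage_w gN h) (bcFst (tr Ss h) V)
    (bcFst_w _ V)) wκ
  refine ⟨k, h, (S.F k).obj.map κ.op s, ?_⟩
  have wb := bcMap_w (pr_tr cS h) V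
  refine (res_pushL (hg k) (T.g k) _ wb (sqMap (hg k) _ wb) (sqMap_w _ _ _) (sqMap_fst _ _ _) _).trans ?_
  have wc : (sqMap (hg k) _ wb ≫ κ.left) ≫ ((EtCoh.bc (tr Ts h)).obj V').hom =
      ((EtCoh.bc g).obj ((EtCoh.bc (pr cS j)).obj V)).hom ≫ pr cT k := by
    rw [Category.assoc]
    exact (congrArg (_ ≫ ·) (MorphismProperty.Over.w κ)).trans (sqMap_w _ _ _)
  rw [res_map_left (T.g k) _ (sqMap_w _ _ _) κ _ rfl wc]
  refine Eq.trans ?_ ((congrArg (T.G.obj.map e.hom.op).hom hs).trans ?_)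
  · rw [res_map_right (T.g k) _ (bcMap_w _ V') e.hom _ rfl
      (by rw [Category.assoc, bcMap_w, ← Category.assoc]; exact congrArg (· ≫ _) (MorphismProperty.Over.w e.hom))]
    refine congrArg (fun r => r) (res_congr (T.g k) (bc_hom_ext ?_ ?_) wc _ s)
    · rw [Category.assoc, Category.assoc, bcMap_fst, liftBc_fst]
      refine bc_hom_ext ?_ ?_
      · rw [Category.assoc, sqMap_fst, ← Category.assoc, sqMap_fst, Category.assoc, bcMap_fst, Category.assoc]
        exact (congrArg (· ≫ bcFst (gN.app (op j)) V) (sqMap_bcFst gN hg j V).symm).trans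
          ((sqMap_fst _ _ _)) |>.symm.trans (Category.assoc _ _ _)
      · rw [Category.assoc, sqMap_w, ← Category.assoc, sqMap_w, Category.assoc, pr_tr, Category.assoc, bcFst_w,
          ← Category.assoc]
        exact (congrArg (· ≫ pr cT j) (MorphismProperty.Over.w e.hom)).symm
    · rw [wc, Category.assoc, bcMap_w, ← Category.assoc]
      exact (congrArg (· ≫ pr cT k) (MorphismProperty.Over.w e.hom)).symm
  · rw [← Functor.map_comp_apply, ← op_comp, Iso.hom_inv_id, op_id, CategoryTheory.Functor.map_id]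
    rfl

include hcT hqc hqs in
theorem pushedTarget_inj (T : Target S cT) (hT : T.IsColim) (j : ι) (V : (Ss.obj (op j)).Etale) (hV : IsQcqsObj V)
    (s : ((pushedSys gN S).F j).obj.obj (op V))
    (hs : res (pr cS j) ((pushedTarget gN hg T).g j) (bcFst (pr cS j) V) (bcFst_w _ V) s = 0) :
    ∃ (k : ι) (h : j ≤ k), res (tr Ss h) ((pushedSys gN S).l h) (bcFst (tr Ss h) V) (bcFst_w _ V) s = 0 := by
  let V' := (EtCoh.bc (gN.app (op j))).obj V
  let e := sqIso gN hg j V
  have h0 : res (pr cT j) (T.g j) (bcFst (pr cT j) V') (bcFst_w _ V') s = 0 := by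
    have wq : (e.hom.left ≫ bcFst (pr cT j) V') ≫ V'.hom =
        ((EtCoh.bc g).obj ((EtCoh.bc (pr cS j)).obj V)).hom ≫ pr cT j := by
      rw [Category.assoc, bcFst_w, ← Category.assoc]
      exact congrArg (· ≫ _) (MorphismProperty.Over.w e.hom)
    have h1 := (res_pushL (hg j) (T.g j) _ (bcFst_w _ V) _ wq
      ((congrArg (· ≫ bcFst (gN.app (op j)) V) (sqMap_bcFst gN hg j V)).symm.trans (sqMap_fst _ _ _)) s).symm.trans hs
    rw [← res_map_right (T.g j) _ (bcFst_w _ V') e.hom _ rfl wq] at h1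
    have h2 := congrArg (T.G.obj.map e.inv.op).hom h1
    rw [← Functor.map_comp_apply, ← op_comp, Iso.inv_hom_id, op_id, CategoryTheory.Functor.map_id] at h2
    exact h2.trans (map_zero _)
  obtain ⟨k, h, hk⟩ := exists_eq_zero hT hcT V' (isQcqsObj_bc_stage gN hqc hqs V hV) s h0
  refine ⟨k, h, ?_⟩
  refine (res_pushL (stage_w gN h) (S.l h) _ (bcFst_w _ V) _ (sqMap_w (stage_w gN h) (bcFst (tr Ss h) V) (bcFst_w _ V)) (sqMap_fst (stage_w gN h) _ _) s).trans ?_
  rw [← res_map_right (S.l h) _ (bcFst_w _ V') (liftBc (tr Ts h)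
    (sqMap (stage_w gN h) (bcFst (tr Ss h) V) (bcFst_w _ V)) (sqMap_w _ _ _)) _ (liftBc_fst _ _ _), hk, map_zero]
  rfl

end Groth.Agent.BcLim5
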